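import Mathlib
import Cfsg.Agent.S0157
import Cfsg.Prelude.Def_Blocks
import Cfsg.Agent.H419.Count_m3
import Cfsg.Agent.H621.AltChar
import Cfsg.Agent.StandardComponent.AltAut
import Cfsg.Agent.FastGrp
import Cfsg.Agent.Prune
set_option linter.all false
prune_inst 0x7f00000000000000000000000000000000000000000000000000000000000000000000000000000000000000000000000000000000000000000000000000000000000000000000000000000000000000003fffffffffffffffffffffffffffbeffbdffffffff
open scoped Cfsg.Agent.FastGrp

-- part: H714/AltVan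
section
/-!
# Vanishing elements of alternating and symmetric groups of degree at least seven

* `exists_van_alt` : `A_n`, `n ≥ 8`, has two non-conjugate vanishing elements whose orders have a common divisor `≥ 3`;
* `exists_van_perm` : the same for `S_n`, `n ≥ 7`.

All of them are elements with exactly one fixed point, at which the character "fixed points minus one" vanishes.
-/

set_option autoImplicit false

open Cfsg Equiv Equiv.Perm

namespace Cfsg.Agent.H714.AltVan

/-- An element of a 2-transitive group with exactly one fixed point is a vanishing element. -/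
theorem exists_char_of_fix {G : Type*} [Group G] [Finite G] (X : Type*) [MulAction G X] [Finite X]
    (h2 : MulAction.IsMultiplyPretransitive G X 2) (hX : 2 ≤ Nat.card X) {x : G}
    (hx : Nat.card (MulAction.fixedBy X x) = 1) : ∃ χ : IrrCharacter G, (χ : G → ℂ) x = 0 := by
  have : MulAction.IsPretransitive G X := MulAction.isPretransitive_of_is_two_pretransitive
  refine ⟨⟨_, (Cfsg.Agent.S0157.result (G := G) X hX).2 h2⟩, ?_⟩
  simp only [hx, _root_.Nat.cast_one, _root_.sub_self]

theorem card_fixedBy {n : ℕ} (g : Perm (Fin n)) :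
    Nat.card (MulAction.fixedBy (Fin n) g) = n - g.cycleType.sum := by
  have h := card_fixedPoints g
  rw [Fintype.card_fin] at h
  rw [← h, Nat.card_eq_fintype_card]
  exact Fintype.card_congr (Equiv.refl _)

theorem exists_char_perm {n : ℕ} (hn : 2 ≤ n) {g : Perm (Fin n)} (hg : g.cycleType.sum = n - 1) :
    ∃ χ : IrrCharacter (Perm (Fin n)), (χ : Perm (Fin n) → ℂ) g = 0 := by
  apply exists_char_of_fix (Fin n) (isMultiplyPretransitive _ 2) (by simpa only [_root_.Nat.card_eq_fintype_card, _root_.Fintype.card_fin] using hn)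
  rw [card_fixedBy, hg]
  omega

/-- Two permutations with given distinct cycle types fixing exactly one point, in the symmetric group. -/
theorem perm_of_types {n d : ℕ} (hn : 2 ≤ n) (m m' : Multiset ℕ) (hm : m.sum = n - 1) (hm' : m'.sum = n - 1)
    (h2 : ∀ a ∈ m, 2 ≤ a) (h2' : ∀ a ∈ m', 2 ≤ a) (hne : m ≠ m') (hd : d ∣ m.lcm) (hd' : d ∣ m'.lcm) (h3 : 3 ≤ d) :
    ∃ x y : Perm (Fin n), (∃ χ : IrrCharacter (Perm (Fin n)), (χ : Perm (Fin n) → ℂ) x = 0) ∧
      (∃ χ : IrrCharacter (Perm (Fin n)), (χ : Perm (Fin n) → ℂ) y = 0) ∧ ¬ IsConj x y ∧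
      3 ≤ Nat.gcd (orderOf x) (orderOf y) := by
  obtain ⟨x, hx⟩ := (exists_with_cycleType_iff (α := Fin n) (m := m)).2 ⟨by rw [hm, Fintype.card_fin]; omega, h2⟩
  obtain ⟨y, hy⟩ := (exists_with_cycleType_iff (α := Fin n) (m := m')).2 ⟨by rw [hm', Fintype.card_fin]; omega, h2'⟩
  refine ⟨x, y, exists_char_perm hn (by rw [hx, hm]), exists_char_perm hn (by rw [hy, hm']), ?_, ?_⟩
  · rw [isConj_iff_cycleType_eq, hx, hy]
    exact hne
  · rw [← lcm_cycleType, ← lcm_cycleType, hx, hy]
    refine h3.trans (Nat.le_of_dvd ?_ (Nat.dvd_gcd hd hd'))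
    apply Nat.gcd_pos_of_pos_left
    rw [← hx, lcm_cycleType]
    exact orderOf_pos x

/-- The symmetric groups. -/
theorem exists_van_perm {n : ℕ} (hn : 7 ≤ n) :
    ∃ x y : Perm (Fin n), (∃ χ : IrrCharacter (Perm (Fin n)), (χ : Perm (Fin n) → ℂ) x = 0) ∧
      (∃ χ : IrrCharacter (Perm (Fin n)), (χ : Perm (Fin n) → ℂ) y = 0) ∧ ¬ IsConj x y ∧
      3 ≤ Nat.gcd (orderOf x) (orderOf y) := by
  rcases Nat.lt_or_ge n 8 with h | h
  · obtain rfl : n = 7 := by omega
    apply perm_of_types (d := 3) (by omega) {3, 3} {6} <;> decide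
  · apply perm_of_types (d := 3) (by omega) {3, n - 4} {3, 2, n - 6}
    · simp; omega
    · simp; omega
    · simp only [_root_.Multiset.insert_eq_cons, _root_.Multiset.mem_cons, _root_.Multiset.mem_singleton, _root_.forall_eq_or_imp, _root_.Nat.reduceLeDiff, _root_.forall_eq, _root_.true_and]; omega
    · simp only [_root_.Multiset.insert_eq_cons, _root_.Multiset.mem_cons, _root_.Multiset.mem_singleton, _root_.forall_eq_or_imp, _root_.Nat.reduceLeDiff, _root_.Std.le_refl, _root_.forall_eq, _root_.true_and]; omega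
    · intro hc
      have := congrArg Multiset.card hc
      simp at this
    · exact Multiset.dvd_lcm (by simp)
    · exact Multiset.dvd_lcm (by simp)
    · omega

/-- Elements of the alternating group conjugate in the symmetric group by an odd permutation with centraliser of odd
order are not conjugate in the alternating group. -/
theorem not_isConj_of_odd {n : ℕ} {x τ : Perm (Fin n)} (hx : x ∈ alternatingGroup (Fin n))
    (hodd : Odd (Nat.card (Subgroup.centralizer ({x} : Set (Perm (Fin n)))))) (hτ : sign τ = -1)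
    (hy : τ * x * τ⁻¹ ∈ alternatingGroup (Fin n)) :
    ¬ IsConj (⟨x, hx⟩ : alternatingGroup (Fin n)) ⟨τ * x * τ⁻¹, hy⟩ := by
  intro hc
  obtain ⟨c, hc⟩ := isConj_iff.1 hc
  have h1 : (c : Perm (Fin n)) * x * (c : Perm (Fin n))⁻¹ = τ * x * τ⁻¹ := congrArg Subtype.val hc
  have h2 : τ⁻¹ * (c : Perm (Fin n)) ∈ Subgroup.centralizer ({x} : Set (Perm (Fin n))) := by
    rw [Subgroup.mem_centralizer_singleton_iff]
    calc τ⁻¹ * (c : Perm (Fin n)) * x = τ⁻¹ * ((c : Perm (Fin n)) * x * (c : Perm (Fin n))⁻¹) * c := by group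
      _ = τ⁻¹ * (τ * x * τ⁻¹) * c := by rw [h1]
      _ = x * (τ⁻¹ * (c : Perm (Fin n))) := by group
  have h3 : sign (τ⁻¹ * (c : Perm (Fin n))) = -1 := by
    rw [map_mul, map_inv, hτ, mem_alternatingGroup.1 c.2]
    simp
  have h4 : (sign (τ⁻¹ * (c : Perm (Fin n)))) ^ Nat.card (Subgroup.centralizer ({x} : Set (Perm (Fin n)))) = 1 := by
    rw [← map_pow]
    have := pow_card_eq_one' (x := (⟨_, h2⟩ : Subgroup.centralizer ({x} : Set (Perm (Fin n)))))
    have h5 := congrArg Subtype.val this
    simp only [Subgroup.coe_pow, Subgroup.coe_one] at h5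
    rw [h5, map_one]
  rw [h3, hodd.neg_one_pow] at h4
  exact absurd h4 (by decide)

end Cfsg.Agent.H714.AltVan
end

-- part: H714/AltRow
section
/-!
# The alternating row of S4943 (helper714)
-/

set_option autoImplicit false

open Cfsg Equiv Equiv.Perm Cfsg.Agent.H713

namespace Cfsg.Agent.H714.AltRow

open AltVan RowTools

universe u

/-- automorphisms of the alternating groups of degree at least seven -/
theorem exists_conj {n : ℕ} (hn : 7 ≤ n) (e : MulAut (alternatingGroup (Fin n))) :
    ∃ σ : Perm (Fin n), ∀ x : alternatingGroup (Fin n), (e x : Perm (Fin n)) = σ * x * σ⁻¹ := by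
  obtain ⟨ψ, hψ⟩ := Cfsg.Agent.StandardComponent.AltAut.exists_autHom n hn
  exact ⟨ψ e, hψ e⟩

/-- automorphisms preserve cycle types -/
theorem cycleType_aut {n : ℕ} (hn : 7 ≤ n) (e : MulAut (alternatingGroup (Fin n))) (x : alternatingGroup (Fin n)) :
    (e x : Perm (Fin n)).cycleType = (x : Perm (Fin n)).cycleType := by
  obtain ⟨σ, hσ⟩ := exists_conj hn e
  rw [hσ, cycleType_conj]

theorem two_pre {n : ℕ} (hn : 4 ≤ n) :
    MulAction.IsMultiplyPretransitive ↥(alternatingGroup (Fin n)) (Fin n) 2 := by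
  have := alternatingGroup.isMultiplyPretransitive (Fin n)
  exact MulAction.isMultiplyPretransitive_of_le (n := Nat.card (Fin n) - 2) (by simp only [_root_.Nat.card_eq_fintype_card, _root_.Fintype.card_fin]; omega) (by simp only [_root_.Nat.card_eq_fintype_card, _root_.Fintype.card_fin, _root_.tsub_le_iff_right, _root_.le_add_iff_nonneg_right, _root_.zero_le])

theorem four_pre {n : ℕ} (hn : 6 ≤ n) :
    MulAction.IsMultiplyPretransitive ↥(alternatingGroup (Fin n)) (Fin n) 4 := by
  have := alternatingGroup.isMultiplyPretransitive (Fin n)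
  exact MulAction.isMultiplyPretransitive_of_le (n := Nat.card (Fin n) - 2) (by simp only [_root_.Nat.card_eq_fintype_card, _root_.Fintype.card_fin]; omega) (by simp only [_root_.Nat.card_eq_fintype_card, _root_.Fintype.card_fin, _root_.tsub_le_iff_right, _root_.le_add_iff_nonneg_right, _root_.zero_le])

theorem card_fixedBy_alt {n : ℕ} (g : alternatingGroup (Fin n)) :
    Nat.card (MulAction.fixedBy (Fin n) g) = n - (g : Perm (Fin n)).cycleType.sum := by
  have : MulAction.fixedBy (Fin n) g = MulAction.fixedBy (Fin n) (g : Perm (Fin n)) := rfl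
  rw [this, card_fixedBy]

/-- elements with exactly one fixed point are zeros of an invariant character -/
theorem vz_one {n : ℕ} (hn : 7 ≤ n) (x : alternatingGroup (Fin n)) (hx : (x : Perm (Fin n)).cycleType.sum = n - 1) :
    VZ ↥(alternatingGroup (Fin n)) x := by
  have h2 := two_pre (n := n) (by omega)
  have : MulAction.IsPretransitive ↥(alternatingGroup (Fin n)) (Fin n) :=
    MulAction.isPretransitive_of_is_two_pretransitive
  refine ⟨⟨_, (Cfsg.Agent.S0157.result (G := ↥(alternatingGroup (Fin n))) (Fin n) (by simp only [_root_.Nat.card_eq_fintype_card, _root_.Fintype.card_fin]; omega)).2 h2⟩,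
    fun α => ?_⟩
  have h3 : Nat.card (MulAction.fixedBy (Fin n) (α x)) = 1 := by
    rw [card_fixedBy_alt, cycleType_aut hn, hx]
    omega
  change ((Nat.card (MulAction.fixedBy (Fin n) (α x)) : ℂ) - 1) = 0
  rw [h3]
  simp

/-- no fixed points of the square -/
theorem nf_sq {n : ℕ} (x : alternatingGroup (Fin n)) (hx : (x : Perm (Fin n)).cycleType.sum = n)
    (h2 : 2 ∉ (x : Perm (Fin n)).cycleType) :
    Cfsg.Agent.H621.AltChar.nf (Fin n) x = 0 ∧ Cfsg.Agent.H621.AltChar.nu (Fin n) x = 0 := by
  have h0 : ∀ a : Fin n, (x : Perm (Fin n)) a ≠ a := by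
    intro a ha
    have h1 := card_fixedBy_alt x
    rw [hx, Nat.sub_self, Nat.card_eq_zero] at h1
    rcases h1 with h1 | h1
    · exact h1.elim ⟨a, ha⟩
    · exact (h1.not_finite inferInstance).elim
  constructor
  · unfold Cfsg.Agent.H621.AltChar.nf
    rw [Nat.card_eq_zero]
    left
    exact ⟨fun ⟨a, ha⟩ => h0 a ha⟩
  · unfold Cfsg.Agent.H621.AltChar.nu
    rw [Nat.card_eq_zero]
    left
    refine ⟨fun ⟨a, ha1, ha2⟩ => h2 ?_⟩
    rw [mem_cycleType_iff]
    have hcyc : (cycleOf (x : Perm (Fin n)) a).IsCycle := isCycle_cycleOf _ (h0 a)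
    have hdis : Disjoint (cycleOf (x : Perm (Fin n)) a) ((x : Perm (Fin n)) * (cycleOf (x : Perm (Fin n)) a)⁻¹) :=
      (disjoint_mul_inv_of_mem_cycleFactorsFinset (by
        rw [cycleOf_mem_cycleFactorsFinset_iff, mem_support]
        exact h0 a)).symm
    refine ⟨cycleOf (x : Perm (Fin n)) a, (x : Perm (Fin n)) * (cycleOf (x : Perm (Fin n)) a)⁻¹, ?_, hdis, hcyc, ?_⟩
    · rw [hdis.commute.eq, inv_mul_cancel_right]
    · rw [← hcyc.orderOf]
      apply orderOf_eq_prime
      · have h5 : (cycleOf (x : Perm (Fin n)) a ^ 2) a = a := by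
          rw [cycleOf_pow_apply_self]
          exact ha2
        exact hcyc.pow_eq_one_iff.2 ⟨a, by rw [cycleOf_apply_self]; exact h0 a, h5⟩
      · exact hcyc.ne_one

/-- elements without cycles of length one or two are zeros of an invariant character -/
theorem vz_two {n : ℕ} (hn : 7 ≤ n) (x : alternatingGroup (Fin n)) (hx : (x : Perm (Fin n)).cycleType.sum = n)
    (h2 : 2 ∉ (x : Perm (Fin n)).cycleType) :
    VZ ↥(alternatingGroup (Fin n)) x := by
  have h4 := four_pre (n := n) (by omega)
  refine ⟨⟨_, Cfsg.Agent.H621.AltChar.irr_a _ (Fin n) (by simp only [_root_.Nat.card_eq_fintype_card, _root_.Fintype.card_fin]; omega) h4⟩, fun α => ?_⟩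
  obtain ⟨h5, h6⟩ := nf_sq (α x) (by rw [cycleType_aut hn, hx]) (by rwa [cycleType_aut hn])
  simp [h5, h6]

/-- rows from two types -/
theorem row_of_types {n d : ℕ} (hn : 7 ≤ n) (m m' : Multiset ℕ)
    (hm : m.sum = n - 1 ∨ m.sum = n ∧ 2 ∉ m) (hm' : m'.sum = n - 1 ∨ m'.sum = n ∧ 2 ∉ m')
    (h2 : ∀ a ∈ m, 2 ≤ a) (h2' : ∀ a ∈ m', 2 ≤ a) (hne : m ≠ m') (hd : d ∣ m.lcm) (hd' : d ∣ m'.lcm) (h3 : 3 ≤ d)
    (he : Even (m.sum + Multiset.card m)) (he' : Even (m'.sum + Multiset.card m')) :
    Row.{u, 0} ↥(alternatingGroup (Fin n)) := by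
  obtain ⟨x, hx⟩ := (exists_with_cycleType_iff (α := Fin n) (m := m)).2 ⟨by rw [Fintype.card_fin]; omega, h2⟩
  obtain ⟨y, hy⟩ := (exists_with_cycleType_iff (α := Fin n) (m := m')).2 ⟨by rw [Fintype.card_fin]; omega, h2'⟩
  have hxs : x ∈ alternatingGroup (Fin n) := by
    rw [mem_alternatingGroup, sign_of_cycleType, hx, he.neg_one_pow]
  have hys : y ∈ alternatingGroup (Fin n) := by
    rw [mem_alternatingGroup, sign_of_cycleType, hy, he'.neg_one_pow]
  refine row_of_pair (x := (⟨x, hxs⟩ : alternatingGroup (Fin n))) (y := ⟨y, hys⟩) (d := d) ?_ ?_ (by omega) ?_ ?_ ?_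
  · rcases hm with h | ⟨h, h'⟩
    · exact vz_one hn _ (by rw [hx, h])
    · exact vz_two hn _ (by rw [hx, h]) (by rwa [hx])
  · rcases hm' with h | ⟨h, h'⟩
    · exact vz_one hn _ (by rw [hy, h])
    · exact vz_two hn _ (by rw [hy, h]) (by rwa [hy])
  · rw [Subgroup.orderOf_mk, ← lcm_cycleType, hx]
    exact hd
  · rw [Subgroup.orderOf_mk, ← lcm_cycleType, hy]
    exact hd'
  · intro α hα
    have h5 := cycleType_aut hn α ⟨x, hxs⟩
    rw [hα] at h5
    change y.cycleType = x.cycleType at h5
    rw [hx, hy] at h5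
    exact hne h5.symm

/-- **The row of the alternating groups of degree at least eight.** -/
theorem row_alt_eight {n : ℕ} (hn : 8 ≤ n) : Row.{u, 0} ↥(alternatingGroup (Fin n)) := by
  rcases Nat.even_or_odd n with he | ho
  · rcases Nat.lt_or_ge n 10 with h | h
    · obtain rfl : n = 8 := by
        obtain ⟨k, hk⟩ := he
        omega
      apply row_of_types (d := 3) (by omega) {5, 3} {3, 2, 2}
      · right; decide
      · left; decide
      · decide
      · decide
      · decide
      · decide
      · decide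
      · decide
      · decide
      · decide
    rcases Nat.lt_or_ge n 12 with h12 | h12
    · obtain rfl : n = 10 := by
        obtain ⟨k, hk⟩ := he
        omega
      apply row_of_types (d := 3) (by omega) {9} {3, 3, 3}
      · left; decide
      · left; decide
      · decide
      · decide
      · decide
      · decide
      · decide
      · decide
      · decide
      · decide
    · apply row_of_types (d := 3) (by omega) {3, 2, n - 6} {3, 4, n - 8}
      · left; simp; omega
      · left; simp; omega
      · simp only [_root_.Multiset.insert_eq_cons, _root_.Multiset.mem_cons, _root_.Multiset.mem_singleton, _root_.forall_eq_or_imp, _root_.Nat.reduceLeDiff, _root_.Std.le_refl, _root_.forall_eq, _root_.true_and]; omega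
      · simp only [_root_.Multiset.insert_eq_cons, _root_.Multiset.mem_cons, _root_.Multiset.mem_singleton, _root_.forall_eq_or_imp, _root_.Nat.reduceLeDiff, _root_.forall_eq, _root_.true_and]; omega
      · intro hc
        have h3 : 2 ∈ ({3, 4, n - 8} : Multiset ℕ) := hc ▸ (by simp)
        simp at h3
        omega
      · exact Multiset.dvd_lcm (by simp)
      · exact Multiset.dvd_lcm (by simp)
      · omega
      · simp only [_root_.Multiset.insert_eq_cons, _root_.Multiset.sum_cons, _root_.Multiset.sum_singleton, _root_.Multiset.card_cons, _root_.Multiset.card_singleton, _root_.Nat.reduceAdd]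
        obtain ⟨k, hk⟩ := he
        exact ⟨k + 1, by omega⟩
      · simp only [_root_.Multiset.insert_eq_cons, _root_.Multiset.sum_cons, _root_.Multiset.sum_singleton, _root_.Multiset.card_cons, _root_.Multiset.card_singleton, _root_.Nat.reduceAdd]
        obtain ⟨k, hk⟩ := he
        exact ⟨k + 1, by omega⟩
  · have h9 : 9 ≤ n := by
      obtain ⟨k, hk⟩ := ho
      omega
    have hne10 : n ≠ 10 := by
      obtain ⟨k, hk⟩ := ho
      omega
    apply row_of_types (d := 3) (by omega) {3, n - 4} {6, n - 7}
    · left; simp; omega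
    · left; simp; omega
    · simp only [_root_.Multiset.insert_eq_cons, _root_.Multiset.mem_cons, _root_.Multiset.mem_singleton, _root_.forall_eq_or_imp, _root_.Nat.reduceLeDiff, _root_.forall_eq, _root_.true_and]; omega
    · simp only [_root_.Multiset.insert_eq_cons, _root_.Multiset.mem_cons, _root_.Multiset.mem_singleton, _root_.forall_eq_or_imp, _root_.Nat.reduceLeDiff, _root_.forall_eq, _root_.true_and]; omega
    · intro hc
      have h3 : 3 ∈ ({6, n - 7} : Multiset ℕ) := hc ▸ (by simp)
      have h6 : 6 ∈ ({3, n - 4} : Multiset ℕ) := hc ▸ (by simp)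
      simp at h3 h6
      omega
    · exact Multiset.dvd_lcm (by simp)
    · exact (show 3 ∣ 6 by omega).trans (Multiset.dvd_lcm (by simp))
    · omega
    · simp only [_root_.Multiset.insert_eq_cons, _root_.Multiset.sum_cons, _root_.Multiset.sum_singleton, _root_.Multiset.card_cons, _root_.Multiset.card_singleton, _root_.Nat.reduceAdd]
      obtain ⟨k, hk⟩ := ho
      exact ⟨k + 1, by omega⟩
    · simp only [_root_.Multiset.insert_eq_cons, _root_.Multiset.sum_cons, _root_.Multiset.sum_singleton, _root_.Multiset.card_cons, _root_.Multiset.card_singleton, _root_.Nat.reduceAdd]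
      obtain ⟨k, hk⟩ := ho
      exact ⟨k + 1, by omega⟩

/-! ### degree seven -/

/-- the alternating group of degree seven itself -/
theorem not_star_alt_seven : ¬ Star ↥(alternatingGroup (Fin 7)) := by
  intro hstar
  obtain ⟨x, hx⟩ := (exists_with_cycleType_iff (α := Fin 7) (m := {7})).2 ⟨by simp, by simp⟩
  have hxs : x ∈ alternatingGroup (Fin 7) := by
    rw [mem_alternatingGroup, sign_of_cycleType, hx]
    decide
  have hys : swap (0 : Fin 7) 1 * x * (swap (0 : Fin 7) 1)⁻¹ ∈ alternatingGroup (Fin 7) := by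
    rw [mem_alternatingGroup] at hxs ⊢
    rw [map_mul, map_mul, map_inv, hxs]
    simp
  have hyt : (swap (0 : Fin 7) 1 * x * (swap (0 : Fin 7) 1)⁻¹).cycleType = {7} := by
    rw [cycleType_conj, hx]
  have h1 : VZ ↥(alternatingGroup (Fin 7)) ⟨x, hxs⟩ :=
    vz_two (by omega) _ (by simp [hx]) (by simp [hx])
  have h2 : VZ ↥(alternatingGroup (Fin 7)) ⟨swap (0 : Fin 7) 1 * x * (swap (0 : Fin 7) 1)⁻¹, hys⟩ :=
    vz_two (by omega) _ (by rw [hyt]; simp) (by rw [hyt]; simp)
  have h3 : ¬ IsConj (⟨x, hxs⟩ : alternatingGroup (Fin 7)) ⟨swap (0 : Fin 7) 1 * x * (swap (0 : Fin 7) 1)⁻¹, hys⟩ := by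
    apply not_isConj_of_odd
    · rw [nat_card_centralizer, hx]
      decide
    · exact sign_swap (by decide)
  apply h3
  apply hstar.isConj h1.van h2.van (d := 7) (by omega)
  · rw [Subgroup.orderOf_mk, ← lcm_cycleType, hx]
    decide
  · rw [Subgroup.orderOf_mk, ← lcm_cycleType, hyt]
    decide
  · exact orderOf_pos _

theorem not_star_perm {n : ℕ} (hn : 7 ≤ n) : ¬ Star (Perm (Fin n)) := by
  intro hstar
  obtain ⟨x, y, hx, hy, hxy, h3⟩ := exists_van_perm hn
  have := hstar x y hx hy hxy
  omega

/-- an almost simple group with alternating socle embeds in the symmetric group -/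
theorem exists_hom {n : ℕ} (hn : 7 ≤ n) {G : Type u} [Group G] (f : ↥(alternatingGroup (Fin n)) →* G)
    (hf : Function.Injective f) (hN : f.range.Normal) (hc : Subgroup.centralizer (f.range : Set G) = ⊥) :
    ∃ Φ : G →* Perm (Fin n), Function.Injective Φ ∧ ∀ a, Φ (f a) = (a : Perm (Fin n)) := by
  obtain ⟨ψ, hψ⟩ := Cfsg.Agent.StandardComponent.AltAut.exists_autHom n hn
  let e : ↥(alternatingGroup (Fin n)) ≃* f.range := MonoidHom.ofInjective hf
  have he : ∀ s, ((e s : f.range) : G) = f s := fun s => rfl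
  have hes : ∀ r : f.range, f (e.symm r) = (r : G) := by
    intro r
    rw [← he, MulEquiv.apply_symm_apply]
  let Φ : G →* Perm (Fin n) := ψ.comp ((MulAut.congr e.symm).toMonoidHom.comp MulAut.conjNormal)
  have hΦ : ∀ (g : G) (a : ↥(alternatingGroup (Fin n))), ∃ b : ↥(alternatingGroup (Fin n)),
      f b = g * f a * g⁻¹ ∧ (b : Perm (Fin n)) = Φ g * a * (Φ g)⁻¹ := by
    intro g a
    refine ⟨((MulAut.congr e.symm) (MulAut.conjNormal g)) a, ?_, hψ _ a⟩
    change f (e.symm (MulAut.conjNormal g (e a))) = _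
    rw [hes, MulAut.conjNormal_apply, he]
  have hZ : ∀ σ : Perm (Fin n), (∀ a : ↥(alternatingGroup (Fin n)), σ * a * σ⁻¹ = a) → σ = 1 := by
    intro σ hσ
    have h1 : σ ∈ Subgroup.centralizer (alternatingGroup (Fin n) : Set (Perm (Fin n))) := by
      rw [Subgroup.mem_centralizer_iff]
      intro a ha
      have := hσ ⟨a, ha⟩
      rw [mul_inv_eq_iff_eq_mul] at this
      exact this.symm
    by_contra hne
    obtain ⟨a, ha⟩ : ∃ a, σ a ≠ a := by
      by_contra hcon
      push Not at hcon
      exact hne (Equiv.ext hcon)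
    -- choose two further points
    obtain ⟨b, c, hb, hcc, hbc⟩ : ∃ b c : Fin n, b ∉ ({a, σ a} : Finset (Fin n)) ∧ c ∉ ({a, σ a} : Finset (Fin n)) ∧ b ≠ c := by
      have h2 : 2 < Fintype.card (Fin n) - 0 := by simp only [_root_.Fintype.card_fin, _root_.tsub_zero]; omega
      have h3 : 1 < (({a, σ a} : Finset (Fin n))ᶜ).card := by
        rw [Finset.card_compl, Fintype.card_fin]
        have := Finset.card_le_two (a := a) (b := σ a)
        omega
      obtain ⟨b, hb, c, hc, hbc⟩ := Finset.one_lt_card.1 h3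
      exact ⟨b, c, by simpa using hb, by simpa using hc, hbc⟩
    simp only [Finset.mem_insert, Finset.mem_singleton, not_or] at hb hcc
    have h4 : swap (σ a) b * swap b c ∈ alternatingGroup (Fin n) := by
      rw [mem_alternatingGroup, map_mul, sign_swap (Ne.symm hb.2), sign_swap hbc]
      decide
    have h5 := Subgroup.mem_centralizer_iff.1 h1 _ h4
    have h6 := congrArg (fun τ : Perm (Fin n) => τ a) h5
    simp only [Perm.mul_apply] at h6
    rw [swap_apply_of_ne_of_ne (a := b) (b := c) (x := a) (Ne.symm hb.1) (Ne.symm hcc.1),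
      swap_apply_of_ne_of_ne (a := σ a) (b := b) (x := a) (Ne.symm ha) (Ne.symm hb.1),
      swap_apply_of_ne_of_ne (a := b) (b := c) (x := σ a) (Ne.symm hb.2) (Ne.symm hcc.2), swap_apply_left] at h6
    exact hb.2 h6
  have hinj : ∀ a b : ↥(alternatingGroup (Fin n)), f a = f b → a = b := fun a b h => hf h
  refine ⟨Φ, ?_, ?_⟩
  · rw [injective_iff_map_eq_one]
    intro g hg
    have h1 : g ∈ Subgroup.centralizer (f.range : Set G) := by
      rw [Subgroup.mem_centralizer_iff]
      rintro _ ⟨a, rfl⟩
      obtain ⟨b, hb1, hb2⟩ := hΦ g a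
      rw [hg] at hb2
      have h2 : b = a := by
        apply Subtype.ext
        simpa using hb2
      rw [h2] at hb1
      rw [eq_mul_inv_iff_mul_eq] at hb1
      exact hb1
    rw [hc, Subgroup.mem_bot] at h1
    exact h1
  · intro a
    have h1 : (Φ (f a))⁻¹ * (a : Perm (Fin n)) = 1 := by
      apply hZ
      intro x
      obtain ⟨b, hb1, hb2⟩ := hΦ (f a) x
      have h2 : b = a * x * a⁻¹ := by
        apply hf
        rw [hb1, map_mul, map_mul, map_inv]
      rw [h2] at hb2
      have h3 : (a : Perm (Fin n)) * x * (a : Perm (Fin n))⁻¹ = Φ (f a) * x * (Φ (f a))⁻¹ := by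
        simpa only [_root_.Subgroup.coe_mul, _root_.InvMemClass.coe_inv] using hb2
      calc (Φ (f a))⁻¹ * (a : Perm (Fin n)) * x * ((Φ (f a))⁻¹ * (a : Perm (Fin n)))⁻¹
          = (Φ (f a))⁻¹ * ((a : Perm (Fin n)) * x * (a : Perm (Fin n))⁻¹) * Φ (f a) := by group
        _ = x := by rw [h3]; group
    exact (inv_mul_eq_one.1 h1)

/-- **The row of the alternating group of degree seven.** -/
theorem row_alt_seven : Row.{u, 0} ↥(alternatingGroup (Fin 7)) where
  vz := by
    obtain ⟨x, hx⟩ := (exists_with_cycleType_iff (α := Fin 7) (m := {7})).2 ⟨by simp, by simp⟩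
    have hxs : x ∈ alternatingGroup (Fin 7) := by
      rw [mem_alternatingGroup, sign_of_cycleType, hx]
      decide
    refine ⟨⟨x, hxs⟩, ?_, vz_two (by omega) _ (by simp [hx]) (by simp [hx])⟩
    rw [Subgroup.orderOf_mk, ← lcm_cycleType, hx]
    decide
  as := by
    intro G _ _ f hf hn hc hstar
    obtain ⟨Φ, hΦ, hΦf⟩ := exists_hom (by omega) f hf hn hc
    have h1 : alternatingGroup (Fin 7) ≤ Φ.range := by
      intro a ha
      exact ⟨f ⟨a, ha⟩, hΦf ⟨a, ha⟩⟩
    by_cases h2 : Φ.range = alternatingGroup (Fin 7)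
    · have e : G ≃* ↥(alternatingGroup (Fin 7)) :=
        (MonoidHom.ofInjective hΦ).trans (MulEquiv.subgroupCongr h2)
      exact not_star_alt_seven (hstar.mulEquiv e)
    · have h3 : Φ.range = ⊤ := by
        obtain ⟨σ, hσ, hσ'⟩ : ∃ σ ∈ Φ.range, σ ∉ alternatingGroup (Fin 7) := by
          by_contra hcon
          push Not at hcon
          exact h2 (le_antisymm hcon h1)
        rw [eq_top_iff]
        intro τ _
        by_cases h4 : τ ∈ alternatingGroup (Fin 7)
        · exact h1 h4
        · have h5 : σ⁻¹ * τ ∈ alternatingGroup (Fin 7) := by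
            rw [mem_alternatingGroup] at h4 hσ' ⊢
            rw [map_mul, map_inv]
            rcases Int.units_eq_one_or (sign σ) with h | h
            · exact absurd h hσ'
            · rcases Int.units_eq_one_or (sign τ) with h' | h'
              · exact absurd h' h4
              · rw [h, h']
                decide
          have h6 := Φ.range.mul_mem hσ (h1 h5)
          rwa [mul_inv_cancel_left] at h6
      have hs : Function.Surjective Φ := MonoidHom.range_eq_top.1 h3
      exact not_star_perm (le_refl 7) (hstar.of_surjective Φ hs)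

/-- **The alternating row of S4943, degree at least seven.** -/
theorem row_alt {n : ℕ} (hn : 7 ≤ n) : Row.{u, 0} ↥(alternatingGroup (Fin n)) := by
  rcases Nat.lt_or_ge n 8 with h | h
  · obtain rfl : n = 7 := by omega
    exact row_alt_seven
  · exact row_alt_eight h

end Cfsg.Agent.H714.AltRow
end

-- part: H714/AltMore
section
/-!
# Further vanishing elements of alternating groups (helper714)

* `exists_vz_even` : an element of even order at least four (S3649);
* `exists_vz_five` : an element of order divisible by a prime at least five (S4557);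
* `exists_two_zeros` : one irreducible character with two non-conjugate zeros (S4983).
-/

set_option autoImplicit false

open Cfsg Equiv Equiv.Perm Cfsg.Agent.H713

namespace Cfsg.Agent.H714.AltMore

open AltVan RowTools AltRow

/-- an element of given type, a zero of an invariant character -/
theorem exists_vz_type {n : ℕ} (hn : 7 ≤ n) (m : Multiset ℕ)
    (hm : m.sum = n - 1 ∨ m.sum = n ∧ 2 ∉ m) (h2 : ∀ a ∈ m, 2 ≤ a)
    (he : Even (m.sum + Multiset.card m)) :
    ∃ x : ↥(alternatingGroup (Fin n)), VZ ↥(alternatingGroup (Fin n)) x ∧ orderOf x = m.lcm ∧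
      (x : Perm (Fin n)).cycleType = m := by
  obtain ⟨x, hx⟩ := (exists_with_cycleType_iff (α := Fin n) (m := m)).2 ⟨by rw [Fintype.card_fin]; omega, h2⟩
  have hxs : x ∈ alternatingGroup (Fin n) := by
    rw [mem_alternatingGroup, sign_of_cycleType, hx, he.neg_one_pow]
  refine ⟨⟨x, hxs⟩, ?_, ?_, hx⟩
  · rcases hm with h | ⟨h, h'⟩
    · exact vz_one hn _ (by rw [hx, h])
    · exact vz_two hn _ (by rw [hx, h]) (by rwa [hx])
  · rw [Subgroup.orderOf_mk, ← lcm_cycleType, hx]

theorem le_lcm {m : Multiset ℕ} {a : ℕ} (ha : a ∈ m) (h0 : ∀ b ∈ m, b ≠ 0) : a ≤ m.lcm :=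
  Nat.le_of_dvd (Nat.pos_of_ne_zero (by
    rw [Ne, Multiset.lcm_eq_zero_iff]
    exact fun h => h0 0 h rfl)) (Multiset.dvd_lcm ha)

/-- vanishing elements of even order at least four -/
theorem exists_vz_even {n : ℕ} (hn : 7 ≤ n) :
    ∃ x : ↥(alternatingGroup (Fin n)), VZ ↥(alternatingGroup (Fin n)) x ∧ 4 ≤ orderOf x ∧ Even (orderOf x) := by
  rcases Nat.lt_or_ge n 9 with h9 | h9
  · obtain rfl | rfl : n = 7 ∨ n = 8 := by omega
    · obtain ⟨x, hx, hxo, _⟩ := exists_vz_type (n := 7) (by omega) {4, 2} (by left; decide) (by decide) (by decide)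
      exact ⟨x, hx, by rw [hxo]; decide, by rw [hxo]; decide⟩
    · obtain ⟨x, hx, hxo, _⟩ := exists_vz_type (n := 8) (by omega) {3, 2, 2} (by left; decide) (by decide) (by decide)
      exact ⟨x, hx, by rw [hxo]; decide, by rw [hxo]; decide⟩
  · rcases Nat.even_or_odd n with he | ho
    · have h10 : 10 ≤ n := by
        obtain ⟨k, hk⟩ := he
        omega
      obtain ⟨x, hx, hxo, _⟩ := exists_vz_type (n := n) (by omega) {4, 2, n - 7} (by left; simp; omega)
        (by simp only [_root_.Multiset.insert_eq_cons, _root_.Multiset.mem_cons, _root_.Multiset.mem_singleton, _root_.forall_eq_or_imp, _root_.Nat.reduceLeDiff, _root_.Std.le_refl, _root_.forall_eq, _root_.true_and]; omega) (by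
          simp only [_root_.Multiset.insert_eq_cons, _root_.Multiset.sum_cons, _root_.Multiset.sum_singleton, _root_.Multiset.card_cons, _root_.Multiset.card_singleton, _root_.Nat.reduceAdd]
          obtain ⟨k, hk⟩ := he
          exact ⟨k + 1, by omega⟩)
      refine ⟨x, hx, ?_, ?_⟩
      · rw [hxo]
        exact le_lcm (by simp) (by simp only [_root_.Multiset.insert_eq_cons, _root_.Multiset.mem_cons, _root_.Multiset.mem_singleton, _root_.ne_eq, _root_.forall_eq_or_imp, _root_.OfNat.ofNat_ne_zero, _root_.not_false_eq_true, _root_.forall_eq, _root_.true_and]; omega)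
      · rw [hxo]
        exact even_iff_two_dvd.2 (Multiset.dvd_lcm (by simp))
    · obtain ⟨x, hx, hxo, _⟩ := exists_vz_type (n := n) (by omega) {6, n - 7} (by left; simp; omega)
        (by simp only [_root_.Multiset.insert_eq_cons, _root_.Multiset.mem_cons, _root_.Multiset.mem_singleton, _root_.forall_eq_or_imp, _root_.Nat.reduceLeDiff, _root_.forall_eq, _root_.true_and]; omega) (by
          simp only [_root_.Multiset.insert_eq_cons, _root_.Multiset.sum_cons, _root_.Multiset.sum_singleton, _root_.Multiset.card_cons, _root_.Multiset.card_singleton, _root_.Nat.reduceAdd]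
          obtain ⟨k, hk⟩ := ho
          exact ⟨k + 1, by omega⟩)
      refine ⟨x, hx, ?_, ?_⟩
      · rw [hxo]
        have : 6 ≤ ({6, n - 7} : Multiset ℕ).lcm := le_lcm (by simp) (by simp; omega)
        omega
      · rw [hxo]
        exact even_iff_two_dvd.2 ((by decide : 2 ∣ 6).trans (Multiset.dvd_lcm (by simp)))

/-- vanishing elements of order divisible by a prime at least five -/
theorem exists_vz_five {n : ℕ} (hn : 7 ≤ n) :
    ∃ x : ↥(alternatingGroup (Fin n)), VZ ↥(alternatingGroup (Fin n)) x ∧
      ∃ r : ℕ, r.Prime ∧ 5 ≤ r ∧ r ∣ orderOf x := by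
  rcases Nat.lt_or_ge n 9 with h9 | h9
  · obtain rfl | rfl : n = 7 ∨ n = 8 := by omega
    · obtain ⟨x, hx, hxo, _⟩ := exists_vz_type (n := 7) (by omega) {7} (by right; decide) (by decide) (by decide)
      exact ⟨x, hx, 7, by norm_num, by norm_num, by rw [hxo]; decide⟩
    · obtain ⟨x, hx, hxo, _⟩ := exists_vz_type (n := 8) (by omega) {7} (by left; decide) (by decide) (by decide)
      exact ⟨x, hx, 7, by norm_num, by norm_num, by rw [hxo]; decide⟩
  · rcases Nat.even_or_odd n with he | ho
    · have h10 : 10 ≤ n := by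
        obtain ⟨k, hk⟩ := he
        omega
      obtain ⟨x, hx, hxo, _⟩ := exists_vz_type (n := n) (by omega) {5, 2, n - 8} (by left; simp; omega)
        (by simp only [_root_.Multiset.insert_eq_cons, _root_.Multiset.mem_cons, _root_.Multiset.mem_singleton, _root_.forall_eq_or_imp, _root_.Nat.reduceLeDiff, _root_.Std.le_refl, _root_.forall_eq, _root_.true_and]; omega) (by
          simp only [_root_.Multiset.insert_eq_cons, _root_.Multiset.sum_cons, _root_.Multiset.sum_singleton, _root_.Multiset.card_cons, _root_.Multiset.card_singleton, _root_.Nat.reduceAdd]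
          obtain ⟨k, hk⟩ := he
          exact ⟨k + 1, by omega⟩)
      refine ⟨x, hx, 5, by norm_num, by norm_num, ?_⟩
      rw [hxo]
      exact Multiset.dvd_lcm (by simp)
    · obtain ⟨x, hx, hxo, _⟩ := exists_vz_type (n := n) (by omega) {5, n - 6} (by left; simp; omega)
        (by simp only [_root_.Multiset.insert_eq_cons, _root_.Multiset.mem_cons, _root_.Multiset.mem_singleton, _root_.forall_eq_or_imp, _root_.Nat.reduceLeDiff, _root_.forall_eq, _root_.true_and]; omega) (by
          simp only [_root_.Multiset.insert_eq_cons, _root_.Multiset.sum_cons, _root_.Multiset.sum_singleton, _root_.Multiset.card_cons, _root_.Multiset.card_singleton, _root_.Nat.reduceAdd]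
          obtain ⟨k, hk⟩ := ho
          exact ⟨k + 1, by omega⟩)
      refine ⟨x, hx, 5, by norm_num, by norm_num, ?_⟩
      rw [hxo]
      exact Multiset.dvd_lcm (by simp)

/-- the value of the permutation character minus one -/
theorem exists_pi {n : ℕ} (hn : 4 ≤ n) :
    ∃ χ : IrrCharacter ↥(alternatingGroup (Fin n)), ∀ x : ↥(alternatingGroup (Fin n)),
      (x : Perm (Fin n)).cycleType.sum = n - 1 → (χ : ↥(alternatingGroup (Fin n)) → ℂ) x = 0 := by
  have h2 := two_pre (n := n) (by omega)
  have : MulAction.IsPretransitive ↥(alternatingGroup (Fin n)) (Fin n) :=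
    MulAction.isPretransitive_of_is_two_pretransitive
  refine ⟨⟨_, (Cfsg.Agent.S0157.result (G := ↥(alternatingGroup (Fin n))) (Fin n) (by simp only [_root_.Nat.card_eq_fintype_card, _root_.Fintype.card_fin]; omega)).2 h2⟩,
    fun x hx => ?_⟩
  have h3 : Nat.card (MulAction.fixedBy (Fin n) x) = 1 := by
    rw [card_fixedBy_alt, hx]
    omega
  change ((Nat.card (MulAction.fixedBy (Fin n) x) : ℂ) - 1) = 0
  rw [h3]
  simp

theorem exists_pair_of_types {n : ℕ} (hn : 7 ≤ n) (m m' : Multiset ℕ) (hm : m.sum = n - 1) (hm' : m'.sum = n - 1)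
    (h2 : ∀ a ∈ m, 2 ≤ a) (h2' : ∀ a ∈ m', 2 ≤ a) (hne : m ≠ m')
    (he : Even (m.sum + Multiset.card m)) (he' : Even (m'.sum + Multiset.card m')) :
    ∃ (χ : IrrCharacter ↥(alternatingGroup (Fin n))) (x y : ↥(alternatingGroup (Fin n))),
      (χ : ↥(alternatingGroup (Fin n)) → ℂ) x = 0 ∧ (χ : ↥(alternatingGroup (Fin n)) → ℂ) y = 0 ∧ ¬ IsConj x y := by
  obtain ⟨χ, hχ⟩ := exists_pi (n := n) (by omega)
  obtain ⟨x, _, _, hx⟩ := exists_vz_type hn m (Or.inl hm) h2 he
  obtain ⟨y, _, _, hy⟩ := exists_vz_type hn m' (Or.inl hm') h2' he'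
  refine ⟨χ, x, y, hχ x (by rw [hx, hm]), hχ y (by rw [hy, hm']), fun hc => ?_⟩
  obtain ⟨c, hc⟩ := isConj_iff.1 hc
  have h1 : IsConj (x : Perm (Fin n)) y := isConj_iff.2 ⟨(c : Perm (Fin n)), congrArg Subtype.val hc⟩
  rw [isConj_iff_cycleType_eq, hx, hy] at h1
  exact hne h1

/-- one irreducible character with two non-conjugate zeros -/
theorem exists_two_zeros {n : ℕ} (hn : 7 ≤ n) :
    ∃ (χ : IrrCharacter ↥(alternatingGroup (Fin n))) (x y : ↥(alternatingGroup (Fin n))),
      (χ : ↥(alternatingGroup (Fin n)) → ℂ) x = 0 ∧ (χ : ↥(alternatingGroup (Fin n)) → ℂ) y = 0 ∧ ¬ IsConj x y := by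
  rcases Nat.lt_or_ge n 9 with h9 | h9
  · obtain rfl | rfl : n = 7 ∨ n = 8 := by omega
    · exact exists_pair_of_types (by omega) {3, 3} {4, 2} (by decide) (by decide) (by decide) (by decide)
        (by decide) (by decide) (by decide)
    · exact exists_pair_of_types (by omega) {7} {3, 2, 2} (by decide) (by decide) (by decide) (by decide)
        (by decide) (by decide) (by decide)
  · rcases Nat.even_or_odd n with he | ho
    · have h10 : 10 ≤ n := by
        obtain ⟨k, hk⟩ := he
        omega
      refine exists_pair_of_types (by omega) {n - 1} {5, 2, n - 8} (by simp) (by simp; omega)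
        (by simp; omega) (by simp only [_root_.Multiset.insert_eq_cons, _root_.Multiset.mem_cons, _root_.Multiset.mem_singleton, _root_.forall_eq_or_imp, _root_.Nat.reduceLeDiff, _root_.Std.le_refl, _root_.forall_eq, _root_.true_and]; omega) ?_ ?_ ?_
      · intro hc
        have := congrArg Multiset.card hc
        simp at this
      · simp only [_root_.Multiset.sum_singleton, _root_.Multiset.card_singleton]
        obtain ⟨k, hk⟩ := he
        exact ⟨k, by omega⟩
      · simp only [_root_.Multiset.insert_eq_cons, _root_.Multiset.sum_cons, _root_.Multiset.sum_singleton, _root_.Multiset.card_cons, _root_.Multiset.card_singleton, _root_.Nat.reduceAdd]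
        obtain ⟨k, hk⟩ := he
        exact ⟨k + 1, by omega⟩
    · refine exists_pair_of_types (by omega) {5, n - 6} {6, n - 7} (by simp; omega) (by simp; omega)
        (by simp only [_root_.Multiset.insert_eq_cons, _root_.Multiset.mem_cons, _root_.Multiset.mem_singleton, _root_.forall_eq_or_imp, _root_.Nat.reduceLeDiff, _root_.forall_eq, _root_.true_and]; omega) (by simp only [_root_.Multiset.insert_eq_cons, _root_.Multiset.mem_cons, _root_.Multiset.mem_singleton, _root_.forall_eq_or_imp, _root_.Nat.reduceLeDiff, _root_.forall_eq, _root_.true_and]; omega) ?_ ?_ ?_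
      · intro hc
        have h5 : 5 ∈ ({6, n - 7} : Multiset ℕ) := hc ▸ (by simp)
        have h6 : 5 = 6 ∨ 5 = n - 7 := by simpa using h5
        obtain ⟨k, hk⟩ := ho
        omega
      · simp only [_root_.Multiset.insert_eq_cons, _root_.Multiset.sum_cons, _root_.Multiset.sum_singleton, _root_.Multiset.card_cons, _root_.Multiset.card_singleton, _root_.Nat.reduceAdd]
        obtain ⟨k, hk⟩ := ho
        exact ⟨k + 1, by omega⟩
      · simp only [_root_.Multiset.insert_eq_cons, _root_.Multiset.sum_cons, _root_.Multiset.sum_singleton, _root_.Multiset.card_cons, _root_.Multiset.card_singleton, _root_.Nat.reduceAdd]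
        obtain ⟨k, hk⟩ := ho
        exact ⟨k + 1, by omega⟩

end Cfsg.Agent.H714.AltMore
end
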