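import Cfsg.Agent.H714.PslRow
import Cfsg.Agent.H714.AltMore
import Cfsg.Agent.S0253
import Cfsg.Agent.S0254
import Cfsg.Agent.S4560
import Cfsg.Agent.Prune
set_option linter.all false
prune_inst 0x7f00000000000000000000000000000000000000000000000000000000000000000000000000000000000000000000000000000000000000000000000000000000000000000000000000000000000000003fffffffffffffffffffffffffffbeffbdffffffff
open scoped Cfsg.Agent.FastGrp

-- part: H714/PslMore
section
/-!
# Further vanishing elements of `PSL₂(q)`, `q` odd (helper714)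

* `exists_vz_even` : `VZ` elements of even order at least four (`q ≥ 7`);
* `exists_two_zeros` : one irreducible character with two non-conjugate zeros;
* `exists_vz_coprime` : for any two primes, a `VZ` element of order prime to both (`q ≥ 7`).
-/

set_option autoImplicit false
set_option linter.unusedSectionVars false

namespace Cfsg.Agent.H714.PslMore

open Matrix Matrix.SpecialLinearGroup MatrixGroups Cfsg.Agent.H140 Cfsg PslTor PslVan PslRow RowTools
open Cfsg.Agent.H713

variable {F : Type*} [Field F] [Fintype F]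

/-- `VZ` elements of even order at least four -/
theorem exists_vz_even (hodd : Odd (Fintype.card F)) (h7 : 7 ≤ Fintype.card F) :
    ∃ x : ProjectiveSpecialLinearGroup (Fin 2) F, VZ _ x ∧ 4 ≤ orderOf x ∧ Even (orderOf x) := by
  have h2 := SLTwo.two_ne_zero_of_odd hodd
  have hS := tor_split (F := F) hodd
  obtain ⟨T, hT, -, -⟩ := exists_tor_nonsplit (F := F) hodd
  obtain ⟨k, hk⟩ := hodd
  have hm1 : (Fintype.card F - 1) / 2 = k := by omega
  have hm2 : (Fintype.card F + 1) / 2 = k + 1 := by omega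
  rw [hm1] at hS
  rw [hm2] at hT
  rcases Nat.even_or_odd k with he | ho
  · obtain ⟨x, -, hx⟩ := exists_orderOf h2 hS (dvd_refl k) (by omega)
    have h4 : 4 ≤ k := by
      obtain ⟨j, hj⟩ := he
      omega
    exact ⟨x, PslVan.vz ⟨k, hk⟩ (by omega), by omega, by rw [hx]; exact he⟩
  · obtain ⟨x, -, hx⟩ := exists_orderOf h2 hT (dvd_refl (k + 1)) (by omega)
    exact ⟨x, PslVan.vz ⟨k, hk⟩ (by omega), by omega, by rw [hx]; exact ho.add_one⟩

/-- three `VZ` elements of pairwise coprime orders -/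
theorem exists_three (hodd : Odd (Fintype.card F)) (h7 : 7 ≤ Fintype.card F) :
    ∃ x y z : ProjectiveSpecialLinearGroup (Fin 2) F, VZ _ x ∧ VZ _ y ∧ VZ _ z ∧
      2 < orderOf x ∧ 2 < orderOf y ∧ 2 < orderOf z ∧
      Nat.Coprime (orderOf x) (orderOf y) ∧ Nat.Coprime (orderOf x) (orderOf z) ∧
      Nat.Coprime (orderOf y) (orderOf z) := by
  obtain ⟨p, hp, hpc, hp2⟩ := exists_char F hodd
  have h2 := SLTwo.two_ne_zero_of_odd hodd
  have hpF : p ∣ Fintype.card F := by
    rw [← CharP.cast_eq_zero_iff F p]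
    exact Nat.cast_card_eq_zero F
  have hS := tor_split (F := F) hodd
  obtain ⟨T, hT, -, -⟩ := exists_tor_nonsplit (F := F) hodd
  obtain ⟨x, -, hx, -, -⟩ := exists_not_isConj hodd p
  obtain ⟨k, hk⟩ := hodd
  have hm1 : (Fintype.card F - 1) / 2 = k := by omega
  have hm2 : (Fintype.card F + 1) / 2 = k + 1 := by omega
  rw [hm1] at hS
  rw [hm2] at hT
  obtain ⟨y, -, hy⟩ := exists_orderOf h2 hS (dvd_refl k) (by omega)
  obtain ⟨z, -, hz⟩ := exists_orderOf h2 hT (dvd_refl (k + 1)) (by omega)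
  have hodd' : Odd (Fintype.card F) := ⟨k, hk⟩
  refine ⟨x, y, z, PslVan.vz hodd' (by omega), PslVan.vz hodd' (by omega), PslVan.vz hodd' (by omega),
    by omega, by omega, by omega, ?_, ?_, ?_⟩
  · rw [hx, hy, hp.out.coprime_iff_not_dvd]
    intro hd
    rw [hk] at hpF
    exact hp.out.one_lt.ne' (Nat.dvd_one.1 ((Nat.dvd_add_right (hd.mul_left 2)).1 hpF))
  · rw [hx, hz, hp.out.coprime_iff_not_dvd]
    intro hd
    rw [hk] at hpF
    have h6 : p ∣ 2 * (k + 1) := hd.mul_left 2
    have h7 : 2 * (k + 1) = (2 * k + 1) + 1 := by ring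
    rw [h7] at h6
    exact hp.out.one_lt.ne' (Nat.dvd_one.1 ((Nat.dvd_add_right hpF).1 h6))
  · rw [hy, hz]
    simp

/-- Out of three numbers at least two, pairwise coprime, one is prime to two given primes. -/
theorem exists_coprime_of_three {a b c l m : ℕ} (hl : l.Prime) (hm : m.Prime)
    (hab : Nat.Coprime a b) (hac : Nat.Coprime a c) (hbc : Nat.Coprime b c) :
    (Nat.Coprime l a ∧ Nat.Coprime m a) ∨ (Nat.Coprime l b ∧ Nat.Coprime m b) ∨
      (Nat.Coprime l c ∧ Nat.Coprime m c) := by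
  simp only [hl.coprime_iff_not_dvd, hm.coprime_iff_not_dvd]
  have key : ∀ {r x y : ℕ}, r.Prime → Nat.Coprime x y → r ∣ x → r ∣ y → False := by
    intro r x y hr hxy h1 h2
    exact hr.one_lt.ne' (Nat.dvd_one.1 (hxy ▸ Nat.dvd_gcd h1 h2))
  by_cases h1 : l ∣ a
  · by_cases h2 : m ∣ b
    · exact Or.inr (Or.inr ⟨fun h => key hl hac h1 h, fun h => key hm hbc h2 h⟩)
    · exact Or.inr (Or.inl ⟨fun h => key hl hab h1 h, h2⟩)
  · by_cases h2 : m ∣ a
    · by_cases h3 : l ∣ b
      · exact Or.inr (Or.inr ⟨fun h => key hl hbc h3 h, fun h => key hm hac h2 h⟩)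
      · exact Or.inr (Or.inl ⟨h3, fun h => key hm hab h2 h⟩)
    · exact Or.inl ⟨h1, h2⟩

/-- for any two primes, a nontrivial `VZ` element of order prime to both -/
theorem exists_vz_coprime (hodd : Odd (Fintype.card F)) (h7 : 7 ≤ Fintype.card F) {l m : ℕ} (hl : l.Prime)
    (hm : m.Prime) : ∃ x : ProjectiveSpecialLinearGroup (Fin 2) F, VZ _ x ∧ x ≠ 1 ∧ Nat.Coprime l (orderOf x) ∧
      Nat.Coprime m (orderOf x) := by
  obtain ⟨x, y, z, hx, hy, hz, hx2, hy2, hz2, hxy, hxz, hyz⟩ := exists_three hodd h7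
  have hne : ∀ w : ProjectiveSpecialLinearGroup (Fin 2) F, 2 < orderOf w → w ≠ 1 := by
    rintro w hw rfl
    simp at hw
  rcases exists_coprime_of_three hl hm hxy hxz hyz with h | h | h
  · exact ⟨x, hx, hne x hx2, h⟩
  · exact ⟨y, hy, hne y hy2, h⟩
  · exact ⟨z, hz, hne z hz2, h⟩

end Cfsg.Agent.H714.PslMore
end

-- part: H714/AltFull
section
/-!
# Alternating groups of all degrees at least five: rows and vanishing elements (helper714)

* `row_alt_full` : the row of S4943 for `A_n`, `n ≥ 5`;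
* `vz_five`, `vz_six` : in `A₅` all elements of order at least two, in `A₆` all elements of order at least three are `VZ`;
* `exists_vz_even` : `n ≥ 6`, `VZ` elements of even order at least four;
* `exists_vz_prime` : for any two primes a `VZ` element of order divisible by a third prime;
* `exists_vz_coprime` : for any prime a nontrivial `VZ` element of order prime to it;
* `exists_two_zeros` : one irreducible character with two non-conjugate zeros.
-/

set_option autoImplicit false

open Cfsg Equiv Equiv.Perm Cfsg.Agent.H713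

namespace Cfsg.Agent.H714.AltFull

universe u

abbrev K5 := ZMod 5
abbrev K9 := GaloisField 3 2

instance fact_prime_five : Fact (Nat.Prime 5) := ⟨by norm_num⟩
instance fact_prime_three : Fact (Nat.Prime 3) := ⟨by norm_num⟩

noncomputable instance fintype_K9 : Fintype K9 := Fintype.ofFinite _

theorem card_five : Fintype.card K5 = 5 := ZMod.card 5

theorem card_nine : Fintype.card K9 = 9 := by
  rw [← Nat.card_eq_fintype_card, GaloisField.card 3 2 (by norm_num)]
  norm_num

/-- the row of the alternating group of degree five -/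
theorem row_alt_five : Row.{u, 0} ↥(alternatingGroup (Fin 5)) := by
  obtain ⟨e⟩ := Cfsg.Agent.S0253.result (F := K5) card_five
  exact (PslRow.row_five (F := K5) card_five).mulEquiv e

/-- the row of the alternating group of degree six -/
theorem row_alt_six : Row.{u, 0} ↥(alternatingGroup (Fin 6)) := by
  obtain ⟨e⟩ := Cfsg.Agent.S0254.result (F := K9) card_nine
  exact (PslRow.row_nine (F := K9) card_nine).mulEquiv e

/-- **The alternating row of S4943.** -/
theorem row_alt_full {n : ℕ} (hn : 5 ≤ n) : Row.{u, 0} ↥(alternatingGroup (Fin n)) := by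
  rcases Nat.lt_or_ge n 7 with h | h
  · obtain rfl | rfl : n = 5 ∨ n = 6 := by omega
    · exact row_alt_five
    · exact row_alt_six
  · exact AltRow.row_alt h

/-! ### `VZ` elements -/

theorem vz_five' {x : ↥(alternatingGroup (Fin 5))} (hx : 2 < orderOf x) : VZ ↥(alternatingGroup (Fin 5)) x := by
  obtain ⟨e⟩ := Cfsg.Agent.S0253.result (F := K5) card_five
  have h1 : VZ (Matrix.ProjectiveSpecialLinearGroup (Fin 2) K5) (e.symm x) :=
    PslVan.vz (by rw [card_five]; decide) (by rw [MulEquiv.orderOf_eq]; exact hx)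
  have := h1.mulEquiv e
  rwa [MulEquiv.apply_symm_apply] at this

theorem vz_six {x : ↥(alternatingGroup (Fin 6))} (hx : 2 < orderOf x) : VZ ↥(alternatingGroup (Fin 6)) x := by
  obtain ⟨e⟩ := Cfsg.Agent.S0254.result (F := K9) card_nine
  have h1 : VZ (Matrix.ProjectiveSpecialLinearGroup (Fin 2) K9) (e.symm x) :=
    PslVan.vz (by rw [card_nine]; decide) (by rw [MulEquiv.orderOf_eq]; exact hx)
  have := h1.mulEquiv e
  rwa [MulEquiv.apply_symm_apply] at this

theorem sum_of_order_two {x : ↥(alternatingGroup (Fin 5))} (hx : orderOf x = 2) :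
    (x : Perm (Fin 5)).cycleType.sum = 4 := by
  have h1 : orderOf (x : Perm (Fin 5)) = 2 := by rw [Subgroup.orderOf_coe, hx]
  have h2 : ∀ a ∈ (x : Perm (Fin 5)).cycleType, a = 2 := by
    intro a ha
    have h3 := dvd_of_mem_cycleType ha
    rw [h1] at h3
    have h4 := two_le_of_mem_cycleType ha
    rcases (Nat.dvd_prime Nat.prime_two).1 h3 with h | h
    · omega
    · exact h
  have h3 := Multiset.eq_replicate_card.2 h2
  set k := Multiset.card (x : Perm (Fin 5)).cycleType with hk
  have h4 : (x : Perm (Fin 5)).cycleType.sum = k * 2 := by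
    rw [h3, Multiset.sum_replicate, smul_eq_mul]
  have h5 : (x : Perm (Fin 5)).cycleType.sum ≤ 5 := by
    rw [sum_cycleType]
    exact (Finset.card_le_univ _).trans (by simp)
  have h6 := mem_alternatingGroup.1 x.2
  rw [sign_of_cycleType, h4, ← hk] at h6
  have hk0 : k ≠ 0 := by
    intro h0
    rw [h0, Multiset.replicate_zero, cycleType_eq_zero] at h3
    rw [h3, orderOf_one] at h1
    omega
  have hk3 : k ≤ 2 := by omega
  interval_cases k
  · exact absurd rfl hk0
  · norm_num at h6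
  · omega

/-- all elements of order at least two of `A₅` are `VZ` -/
theorem vz_five {x : ↥(alternatingGroup (Fin 5))} (hx : x ≠ 1) : VZ ↥(alternatingGroup (Fin 5)) x := by
  by_cases h : 2 < orderOf x
  · exact vz_five' h
  · have h1 : orderOf x ≠ 1 := fun h => hx (orderOf_eq_one_iff.1 h)
    have h2 := orderOf_pos x
    have h3 : orderOf x = 2 := by omega
    obtain ⟨χ, hχ⟩ := AltMore.exists_pi (n := 5) (by norm_num)
    refine ⟨χ, fun α => hχ (α x) ?_⟩
    exact sum_of_order_two (by rw [MulEquiv.orderOf_eq, h3])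

/-- characters of alternating groups which are restrictions give `VZ` elements -/
theorem vz_of_extends {n : ℕ} (hn : 7 ≤ n) (χ : IrrCharacter (alternatingGroup (Fin n)))
    (ψ : IrrCharacter (Perm (Fin n)))
    (h : ∀ x : alternatingGroup (Fin n), (ψ : Perm (Fin n) → ℂ) x = (χ : alternatingGroup (Fin n) → ℂ) x)
    {x : alternatingGroup (Fin n)} (hx : (χ : alternatingGroup (Fin n) → ℂ) x = 0) :
    VZ ↥(alternatingGroup (Fin n)) x := by
  refine ⟨χ, fun α => ?_⟩
  obtain ⟨σ, hσ⟩ := AltRow.exists_conj hn α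
  rw [← h, hσ, Cfsg.Agent.Characters.Core.isIrr_isClassFunction ψ.2, h, hx]

/-- `VZ` elements of order a power of two and of order three -/
theorem exists_vz_two_three {n : ℕ} (hn : 7 ≤ n) :
    (∃ x : alternatingGroup (Fin n), VZ ↥(alternatingGroup (Fin n)) x ∧ x ≠ 1 ∧ ∃ j, orderOf x = 2 ^ j) ∧
    (∃ x : alternatingGroup (Fin n), VZ ↥(alternatingGroup (Fin n)) x ∧ orderOf x = 3) := by
  obtain ⟨⟨χ, ⟨x, hx, hχx⟩, ψ, hψ⟩, ⟨χ', ⟨y, hy, hχy⟩, ψ', hψ'⟩⟩ := Cfsg.Agent.S4560.result n hn
  refine ⟨⟨x, vz_of_extends hn χ ψ hψ hχx, ?_, hx⟩, ⟨y, vz_of_extends hn χ' ψ' hψ' hχy, hy⟩⟩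
  rintro rfl
  exact Cfsg.Agent.Characters.Core.isIrr_apply_one_ne_zero χ.2 hχx

/-- elements of given orders in `A₅` and `A₆` -/
theorem exists_order_five (n : ℕ) (hn : 5 ≤ n) : ∃ x : alternatingGroup (Fin n), orderOf x = 5 := by
  obtain ⟨x, hx⟩ := (exists_with_cycleType_iff (α := Fin n) (m := {5})).2 ⟨by simpa only [_root_.Multiset.sum_singleton, _root_.Fintype.card_fin] using hn, by simp⟩
  have hxs : x ∈ alternatingGroup (Fin n) := by
    rw [mem_alternatingGroup, sign_of_cycleType, hx]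
    decide
  refine ⟨⟨x, hxs⟩, ?_⟩
  rw [Subgroup.orderOf_mk, ← lcm_cycleType, hx]
  decide

theorem exists_order_three (n : ℕ) (hn : 5 ≤ n) : ∃ x : alternatingGroup (Fin n), orderOf x = 3 := by
  obtain ⟨x, hx⟩ := (exists_with_cycleType_iff (α := Fin n) (m := {3})).2
    ⟨by rw [Fintype.card_fin]; simp; omega, by simp⟩
  have hxs : x ∈ alternatingGroup (Fin n) := by
    rw [mem_alternatingGroup, sign_of_cycleType, hx]
    decide
  refine ⟨⟨x, hxs⟩, ?_⟩
  rw [Subgroup.orderOf_mk, ← lcm_cycleType, hx]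
  decide

theorem exists_order_two (n : ℕ) (hn : 5 ≤ n) : ∃ x : alternatingGroup (Fin n), orderOf x = 2 := by
  obtain ⟨x, hx⟩ := (exists_with_cycleType_iff (α := Fin n) (m := {2, 2})).2
    ⟨by rw [Fintype.card_fin]; simp; omega, by simp⟩
  have hxs : x ∈ alternatingGroup (Fin n) := by
    rw [mem_alternatingGroup, sign_of_cycleType, hx]
    decide
  refine ⟨⟨x, hxs⟩, ?_⟩
  rw [Subgroup.orderOf_mk, ← lcm_cycleType, hx]
  decide

theorem exists_order_four (n : ℕ) (hn : 6 ≤ n) : ∃ x : alternatingGroup (Fin n), orderOf x = 4 := by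
  obtain ⟨x, hx⟩ := (exists_with_cycleType_iff (α := Fin n) (m := {4, 2})).2
    ⟨by rw [Fintype.card_fin]; simp; omega, by simp⟩
  have hxs : x ∈ alternatingGroup (Fin n) := by
    rw [mem_alternatingGroup, sign_of_cycleType, hx]
    decide
  refine ⟨⟨x, hxs⟩, ?_⟩
  rw [Subgroup.orderOf_mk, ← lcm_cycleType, hx]
  decide

/-- `VZ` elements of even order at least four, `n ≥ 6` -/
theorem exists_vz_even {n : ℕ} (hn : 6 ≤ n) :
    ∃ x : ↥(alternatingGroup (Fin n)), VZ ↥(alternatingGroup (Fin n)) x ∧ 4 ≤ orderOf x ∧ Even (orderOf x) := by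
  rcases Nat.lt_or_ge n 7 with h | h
  · obtain rfl : n = 6 := by omega
    obtain ⟨x, hx⟩ := exists_order_four 6 le_rfl
    exact ⟨x, vz_six (by omega), by omega, by rw [hx]; decide⟩
  · exact AltMore.exists_vz_even h

/-- three `VZ` elements: a nontrivial `2`-element, a nontrivial `3`-element, an element of order divisible by a prime
at least five -/
theorem exists_three {n : ℕ} (hn : 5 ≤ n) :
    ∃ x y z : ↥(alternatingGroup (Fin n)), VZ ↥(alternatingGroup (Fin n)) x ∧ VZ ↥(alternatingGroup (Fin n)) y ∧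
      VZ ↥(alternatingGroup (Fin n)) z ∧ (∃ j, 0 < j ∧ orderOf x = 2 ^ j) ∧ orderOf y = 3 ∧
      ∃ r : ℕ, r.Prime ∧ 5 ≤ r ∧ r ∣ orderOf z := by
  rcases Nat.lt_or_ge n 7 with h | h
  · obtain ⟨x, hx⟩ := exists_order_two n hn
    obtain ⟨y, hy⟩ := exists_order_three n hn
    obtain ⟨z, hz⟩ := exists_order_five n hn
    obtain rfl | rfl : n = 5 ∨ n = 6 := by omega
    · refine ⟨x, y, z, vz_five ?_, vz_five ?_, vz_five ?_, ⟨1, by norm_num, by rw [hx]; norm_num⟩, hy,
        5, by norm_num, le_rfl, by rw [hz]⟩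
      · rintro rfl
        simp at hx
      · rintro rfl
        simp at hy
      · rintro rfl
        simp at hz
    · obtain ⟨w, hw⟩ := exists_order_four 6 le_rfl
      exact ⟨w, y, z, vz_six (by omega), vz_six (by omega), vz_six (by omega),
        ⟨2, by norm_num, by rw [hw]; norm_num⟩, hy, 5, by norm_num, le_rfl, by rw [hz]⟩
  · obtain ⟨⟨x, hx, hx1, j, hj⟩, y, hy, hy3⟩ := exists_vz_two_three h
    obtain ⟨z, hz, r, hr⟩ := AltMore.exists_vz_five h
    refine ⟨x, y, z, hx, hy, hz, ⟨j, ?_, hj⟩, hy3, r, hr⟩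
    rcases Nat.eq_zero_or_pos j with h0 | h0
    · rw [h0, pow_zero, orderOf_eq_one_iff] at hj
      exact absurd hj hx1
    · exact h0

/-- for any two primes a `VZ` element of order divisible by a third prime -/
theorem exists_vz_prime {n : ℕ} (hn : 5 ≤ n) (l m : ℕ) :
    ∃ x : ↥(alternatingGroup (Fin n)), VZ ↥(alternatingGroup (Fin n)) x ∧
      ∃ r : ℕ, r.Prime ∧ r ≠ l ∧ r ≠ m ∧ r ∣ orderOf x := by
  obtain ⟨x, y, z, hx, hy, hz, ⟨j, hj0, hj⟩, hy3, r, hr, hr5, hrz⟩ := exists_three hn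
  have h2x : 2 ∣ orderOf x := by
    rw [hj]
    exact dvd_pow_self 2 (by omega)
  by_cases h2 : 2 ≠ l ∧ 2 ≠ m
  · exact ⟨x, hx, 2, Nat.prime_two, h2.1, h2.2, h2x⟩
  · by_cases h3 : 3 ≠ l ∧ 3 ≠ m
    · exact ⟨y, hy, 3, Nat.prime_three, h3.1, h3.2, by rw [hy3]⟩
    · exact ⟨z, hz, r, hr, by omega, by omega, hrz⟩

/-- for any prime a nontrivial `VZ` element of order prime to it -/
theorem exists_vz_coprime {n : ℕ} (hn : 5 ≤ n) {l : ℕ} (hl : l.Prime) :
    ∃ x : ↥(alternatingGroup (Fin n)), VZ ↥(alternatingGroup (Fin n)) x ∧ x ≠ 1 ∧ Nat.Coprime l (orderOf x) := by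
  obtain ⟨x, y, z, hx, hy, hz, ⟨j, hj0, hj⟩, hy3, r, hr, hr5, hrz⟩ := exists_three hn
  by_cases h2 : l = 2
  · refine ⟨y, hy, ?_, ?_⟩
    · rintro rfl
      simp at hy3
    · rw [hy3, h2]
      decide
  · refine ⟨x, hx, ?_, ?_⟩
    · rintro rfl
      rw [orderOf_one] at hj
      have : 1 < 2 ^ j := Nat.one_lt_two_pow (by omega)
      omega
    · rw [hj]
      exact Nat.Coprime.pow_right _ ((Nat.coprime_primes hl Nat.prime_two).2 h2)

end Cfsg.Agent.H714.AltFull
end
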