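import Cfsg.Agent.H710.VanCount
import Cfsg.Agent.H413.JOneSpec
import Cfsg.Agent.H180.KMathieu
import Cfsg.Agent.BpSpor.CoThreeFive
import Cfsg.Agent.S2065
import Cfsg.Agent.MTwelveType.SylowModel
import Cfsg.Agent.Prune
set_option linter.all false
prune_inst 0x7f00000000000000000000000000000000000000000000000000000000000000000000000000000000000000000000000000000000000000000000000000000000000000000000000000000000000000003fffffffffffffffffffffffffffbeffbdffffffff
open scoped Cfsg.Agent.FastGrp

/-!
# The rows of `J₁` and `M₁₂` for S4943 (helper714)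

* `J1.hasDZ_nineteen`, `row_j1`
* `M12.hasDZ_five`, `row_m12`
-/

set_option autoImplicit false

namespace Cfsg.Agent.H714.SporRows

open Cfsg Cfsg.Agent.H713 Cfsg.Agent.H665.NoPQ Cfsg.Agent.H713.Count

universe u v

section J1

theorem card_j1 : Nat.card Spor.J1 = 175560 := Cfsg.Agent.SporadicB.J1.Main.isJ1.2

theorem hasDZ_nineteen : HasDZ 19 Spor.J1 := by
  have : Fact (Nat.Prime 19) := ⟨by norm_num⟩
  have hcard := card_j1
  have hfin : Finite Spor.J1 := Nat.finite_of_card_ne_zero (by rw [hcard]; norm_num)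
  have hfac : (Nat.card Spor.J1).factorization 19 = 1 := by
    rw [hcard]; exact factorization_eq_one (by norm_num) (by norm_num)
  have hspec := Cfsg.Agent.H413.JOneSpec.exists_orderOf_iff
  obtain ⟨x, hx⟩ : ∃ x : Spor.J1, orderOf x = 19 := (hspec 19).2 (by decide)
  have hc : Nat.card (Subgroup.centralizer ({x} : Set Spor.J1)) = 19 := by
    refine card_centralizer_of_orders hfac (fun y hy => ?_) hx
    have h1 := (hspec (orderOf y)).1 ⟨y, rfl⟩
    revert hy
    generalize orderOf y = n at h1 ⊢
    fin_cases h1 <;> norm_num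
  refine hasDZ_of_orders hfac hx hc {1, 2, 3, 5, 6, 7, 10, 11, 15} (fun n hn => ⟨?_, ?_⟩) ?_
  · revert hn
    generalize n = m
    intro hm
    fin_cases hm <;> norm_num
  · refine (hspec n).2 ?_
    fin_cases hn <;> decide
  · rw [hcard]; decide

theorem row_j1' : Row.{u, 0} Spor.J1 := by
  have : Fact (Nat.Prime 19) := ⟨by norm_num⟩
  have hcard := card_j1
  have hfin : Finite Spor.J1 := Nat.finite_of_card_ne_zero (by rw [hcard]; norm_num)
  refine Row.of_arith_primes (o := 1) (card_mulAut_dvd (by rw [Cfsg.Agent.S2065.result])) fun d hd => ?_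
  obtain rfl := Nat.dvd_one.1 hd
  refine ⟨19, by norm_num, by norm_num, ?_, hasDZ_nineteen, by norm_num, by rw [hcard]; norm_num⟩
  rw [hcard]; exact factorization_eq_one (by norm_num) (by norm_num)

theorem row_j1 {S : Type v} [Group S] (h : Spor.IsoJ1 S) : Row.{u, v} S := by
  obtain ⟨e⟩ := h
  exact Row.mulEquiv row_j1' e.symm

end J1

section M12

theorem card_m12 : Nat.card Spor.M12 = 95040 := Cfsg.Agent.MTwelveType.SylowModel.card_M12

theorem hasDZ_five : HasDZ 5 Spor.M12 := by
  have : Fact (Nat.Prime 5) := ⟨by norm_num⟩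
  have hcard := card_m12
  have hfin : Finite Spor.M12 := Nat.finite_of_card_ne_zero (by rw [hcard]; norm_num)
  have hfac : (Nat.card Spor.M12).factorization 5 = 1 := by
    rw [hcard]; exact factorization_eq_one (by norm_num) (by norm_num)
  obtain ⟨x, hx⟩ := exists_prime_orderOf_dvd_card' (G := Spor.M12) 5 (by rw [hcard]; norm_num)
  have hx5 : x ^ 5 = 1 := by rw [← hx]; exact pow_orderOf_eq_one x
  have hc10 := Cfsg.Agent.CpAutCoThreeFive.card_cent_dvd hx
  have h5c : 5 ∣ Nat.card (Subgroup.centralizer ({x} : Set Spor.M12)) := by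
    have hxC : x ∈ Subgroup.centralizer ({x} : Set Spor.M12) :=
      Subgroup.mem_centralizer_singleton_iff.2 rfl
    rw [← hx, ← Subgroup.orderOf_mk x hxC]
    exact orderOf_dvd_natCard _
  obtain ⟨c, hc⟩ := h5c
  have hc2 : c ∣ 2 := by
    rw [hc] at hc10
    obtain ⟨m, hm⟩ := hc10
    exact ⟨m, by rw [mul_assoc] at hm; omega⟩
  have h1 := card_fus_mul hfac hx hc
  have h3 := card_fus_dvd (p := 5) hx5
  have h4 := card_fus_mul_card_sing (p := 5) hx5
  have hk : 12 ≤ Nat.card (ConjClasses Spor.M12) := Cfsg.Agent.H180.KMathieu.m12 ⟨MulEquiv.refl _⟩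
  rw [hcard] at h1
  have hf : (fus (p := 5) x).card ≤ 4 := Nat.le_of_dvd (by norm_num) h3
  have hcle : c ≤ 2 := Nat.le_of_dvd (by norm_num) hc2
  refine hasDZ_of_card_classes hfac hx hc ?_
  generalize (fus (p := 5) x).card = f at h1 h3 h4 hf ⊢
  generalize (sing 5 x).card = s at h4 ⊢
  have h1' : f * c % 5 = 3 := by
    have := h1
    rw [Nat.ModEq] at this
    norm_num at this
    exact this
  interval_cases f <;> interval_cases c <;> omega

theorem row_m12' : Row.{u, 0} Spor.M12 := by
  have : Fact (Nat.Prime 5) := ⟨by norm_num⟩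
  have hcard := card_m12
  have hfin : Finite Spor.M12 := Nat.finite_of_card_ne_zero (by rw [hcard]; norm_num)
  have hfac : (Nat.card Spor.M12).factorization 5 = 1 := by
    rw [hcard]; exact factorization_eq_one (by norm_num) (by norm_num)
  exact Row.of_dz_of_not_dvd (p := 5) (by norm_num) hfac hasDZ_five (by rw [hcard]; norm_num)

theorem row_m12 {S : Type v} [Group S] (h : Spor.IsoM12 S) : Row.{u, v} S := by
  obtain ⟨e⟩ := h
  exact Row.mulEquiv row_m12' e.symm

end M12

end Cfsg.Agent.H714.SporRows
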