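import Cfsg.Agent.H419.Count_m3
import Cfsg.Agent.H713.Invol
import Cfsg.Agent.H183.OutAbs
import Cfsg.Agent.OddOrderCharacters.IndRes
import Cfsg.Agent.CharactersDeep.NormalInd
import Cfsg.Agent.Characters.GaloisIrr
import Cfsg.Agent.H714.PslTor
import Cfsg.Agent.S0157
import Cfsg.Agent.S2301
import Cfsg.Agent.S2602
import Cfsg.Agent.FastGrp
import Cfsg.Agent.Prune
set_option linter.all false

section
prune_inst 0x7f00000000000000000000000000000000000000000000000000000000000000000000000000000000000000000000000000000000000000000000000000000000000000000000000000000000000000003fffffffffffffffffffffffffffbeffbdffffffff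

-- part: H714/SmallIndex
section
set_option linter.all false
open scoped Cfsg.Agent.FastGrp

/-!
# Almost simple groups with small outer part and the property `Star` (helper714)

Let `f : S →* G` be injective with normal range.

* `index_dvd_card_out` : if the centralizer of the range is trivial, `|G : S|` divides `|Out S|`;
* `not_star_one` : `r`-defect zero, `S` has one class of elements of order `r`, `|G : S| > 1`;
* `not_star_two` : `r`-defect zero, `S` has at most two classes of elements of order `r`, `|G : S| > 2`;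
* `van_of_index_two` : for `|G : S| = 2` and `x, y` in `S`, conjugate in `G` but not in `S`, all elements outside `S` vanish;
* `not_star_index_two` : if moreover `S` has an element of order four and all its elements of order at least three are `VZ`.
-/

set_option autoImplicit false

namespace Cfsg.Agent.H714.SmallIndex

open Cfsg Cfsg.Agent.H665.NoPQ RowTools
open Cfsg.Agent.H713


universe u v

variable {S : Type v} [Group S] {G : Type u} [Group G]

/-- the action on the normal subgroup -/
theorem exists_autHom (f : S →* G) (hf : Function.Injective f) (hN : f.range.Normal) :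
    ∃ Φ : G →* MulAut S, ∀ (g : G) (s : S), f (Φ g s) = g * f s * g⁻¹ := by
  let e : S ≃* f.range := MonoidHom.ofInjective hf
  have he : ∀ s, ((e s : f.range) : G) = f s := fun s => rfl
  have hes : ∀ r : f.range, f (e.symm r) = (r : G) := by
    intro r
    rw [← he, MulEquiv.apply_symm_apply]
  refine ⟨(MulAut.congr e.symm).toMonoidHom.comp MulAut.conjNormal, fun g s => ?_⟩
  change f (e.symm (MulAut.conjNormal g (e s))) = _
  rw [hes, MulAut.conjNormal_apply, he]

/-- the index of the socle divides the order of the outer automorphism group -/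
theorem index_dvd_card_out [Finite S] (f : S →* G) (hf : Function.Injective f) (hN : f.range.Normal)
    (hc : Subgroup.centralizer (f.range : Set G) = ⊥) : f.range.index ∣ Nat.card (Out S) := by
  obtain ⟨Φ, hΦ⟩ := exists_autHom f hf hN
  let Ψ : G →* Out S := (QuotientGroup.mk' (Inn S)).comp Φ
  have hker : Ψ.ker = f.range := by
    ext g
    rw [MonoidHom.mem_ker, MonoidHom.comp_apply, QuotientGroup.mk'_apply, QuotientGroup.eq_one_iff]
    constructor
    · rintro ⟨s, hs⟩
      have h1 : (f s)⁻¹ * g ∈ Subgroup.centralizer (f.range : Set G) := by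
        rw [Subgroup.mem_centralizer_iff]
        rintro _ ⟨t, rfl⟩
        have h2 := hΦ g t
        rw [← hs, MulAut.conj_apply, map_mul, map_mul, map_inv] at h2
        have h3 : f t * ((f s)⁻¹ * g) = (f s)⁻¹ * (f s * f t * (f s)⁻¹) * g := by group
        rw [h3, h2]
        group
      rw [hc, Subgroup.mem_bot, inv_mul_eq_one] at h1
      exact ⟨s, h1⟩
    · rintro ⟨s, rfl⟩
      refine ⟨s, ?_⟩
      apply MulEquiv.ext
      intro t
      apply hf
      rw [hΦ, MulAut.conj_apply, map_mul, map_mul, map_inv]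
  rw [← hker, Subgroup.index_ker]
  exact Subgroup.card_subgroup_dvd_card _

/-- elements outside a normal subgroup commuting with an element of order `r` -/
theorem exists_singular [Finite G] {N : Subgroup G} {r : ℕ} (hr : r.Prime) {x t : G} (hxN : x ∈ N)
    (hx : orderOf x = r) (ht : t ∉ N) (htx : t * x = x * t) : ∃ z : G, z ∉ N ∧ r ∣ orderOf z := by
  by_cases hd : r ∣ orderOf t
  · exact ⟨t, ht, hd⟩
  · refine ⟨t * x, fun h => ht ?_, ?_⟩
    · have := N.mul_mem h (N.inv_mem hxN)
      rwa [mul_inv_cancel_right] at this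
    · have hc : Commute t x := htx
      have hcop : Nat.Coprime (orderOf t) (orderOf x) := by
        rw [hx, Nat.coprime_comm, hr.coprime_iff_not_dvd]
        exact hd
      rw [hc.orderOf_mul_eq_mul_orderOf_of_coprime hcop, hx]
      exact dvd_mul_left _ _

/-- under `Star` and `r`-defect zero there is no centralizing element outside -/
theorem no_commuting [Finite S] [Finite G] (f : S →* G) (hf : Function.Injective f) (hN : f.range.Normal)
    {r : ℕ} [hr : Fact r.Prime] (hr2 : r ≠ 2) (hDZ : HasDZ r S) (hi : ¬ r ∣ f.range.index) (hG : Cfsg.Agent.H713.Star G)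
    {x : S} (hx : orderOf x = r) {t : G} (htx : t * f x = f x * t) : t ∈ f.range := by
  by_contra ht
  have hr3 : 2 < r := lt_of_le_of_ne hr.out.two_le (Ne.symm hr2)
  have hDN : HasDZ r f.range := Cfsg.Agent.H713.HasDZ.mulEquiv (MonoidHom.ofInjective hf) hDZ
  have hDG : HasDZ r G := Cfsg.Agent.H713.HasDZ.of_normal f.range hi hDN
  have hx' : orderOf (f x) = r := by rw [orderOf_injective f hf, hx]
  obtain ⟨z, hz, hrz⟩ := exists_singular hr.out (N := f.range) ⟨x, rfl⟩ hx' ht htx
  have hc : IsConj (f x) z := hG.isConj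
    (Cfsg.Agent.H713.HasDZ.van hDG (by rw [hx'])) (Cfsg.Agent.H713.HasDZ.van hDG hrz) hr3 (by rw [hx']) hrz (orderOf_pos _)
  obtain ⟨c, hc⟩ := isConj_iff.1 hc
  exact hz (hc ▸ hN.conj_mem _ ⟨x, rfl⟩ c)

/-- one class of elements of order `r` -/
theorem not_star_one [Finite S] [Finite G] (f : S →* G) (hf : Function.Injective f) (hN : f.range.Normal)
    {r : ℕ} [hr : Fact r.Prime] (hr2 : r ≠ 2) (hDZ : HasDZ r S) (hi : ¬ r ∣ f.range.index)
    {x : S} (hx : orderOf x = r) (h1 : ∀ y : S, orderOf y = r → IsConj x y) (hne : f.range ≠ ⊤) : ¬ Cfsg.Agent.H713.Star G := by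
  intro hG
  obtain ⟨Φ, hΦ⟩ := exists_autHom f hf hN
  apply hne
  rw [eq_top_iff]
  intro g _
  obtain ⟨s, hs⟩ := isConj_iff.1 (h1 (Φ g x) (by rw [MulEquiv.orderOf_eq, hx]))
  have h2 : (f s)⁻¹ * g ∈ f.range := by
    refine no_commuting f hf hN hr2 hDZ hi hG hx ?_
    have h3 := hΦ g x
    rw [← hs, map_mul, map_mul, map_inv] at h3
    have h4 : f x * ((f s)⁻¹ * g) = (f s)⁻¹ * (f s * f x * (f s)⁻¹) * g := by group
    rw [h4, h3]
    group
  have h3 := f.range.mul_mem ⟨s, rfl⟩ h2
  rwa [mul_inv_cancel_left] at h3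

/-- two classes of elements of order `r` -/
theorem not_star_two [Finite S] [Finite G] (f : S →* G) (hf : Function.Injective f) (hN : f.range.Normal)
    {r : ℕ} [hr : Fact r.Prime] (hr2 : r ≠ 2) (hDZ : HasDZ r S) (hi : ¬ r ∣ f.range.index)
    {x x' : S} (hx : orderOf x = r) (h1 : ∀ y : S, orderOf y = r → IsConj x y ∨ IsConj x' y)
    (h3 : 2 < f.range.index) : ¬ Cfsg.Agent.H713.Star G := by
  intro hG
  obtain ⟨Φ, hΦ⟩ := exists_autHom f hf hN
  -- elements moving `x` to the same class lie in the same coset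
  have key : ∀ (g g' : G) (s : S), s * Φ g' x * s⁻¹ = Φ g x → g⁻¹ * g' ∈ f.range := by
    intro g g' s h
    have h2 : g⁻¹ * f s * g' ∈ f.range := by
      refine no_commuting f hf hN hr2 hDZ hi hG hx ?_
      have h4 := congrArg f h
      rw [map_mul, map_mul, map_inv, hΦ, hΦ] at h4
      have h5 : g⁻¹ * f s * g' * f x = g⁻¹ * (f s * (g' * f x * g'⁻¹) * (f s)⁻¹) * f s * g' := by group
      rw [h5, h4]
      group
    have h4 : g⁻¹ * g' = (g⁻¹ * (f s)⁻¹ * g) * (g⁻¹ * f s * g') := by group
    rw [h4]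
    refine f.range.mul_mem ?_ h2
    have := hN.conj_mem (f s)⁻¹ (f.range.inv_mem ⟨s, rfl⟩) g⁻¹
    simpa using this
  -- three cosets
  have h4 : Finite (G ⧸ f.range) := inferInstance
  have h5 : 2 < Nat.card (G ⧸ f.range) := h3
  classical
  have := Fintype.ofFinite (G ⧸ f.range)
  rw [Nat.card_eq_fintype_card, ← Finset.card_univ, Finset.two_lt_card] at h5
  obtain ⟨a, -, b, -, c, -, hab, hac, hbc⟩ := h5
  obtain ⟨a, rfl⟩ := QuotientGroup.mk_surjective a
  obtain ⟨b, rfl⟩ := QuotientGroup.mk_surjective b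
  obtain ⟨c, rfl⟩ := QuotientGroup.mk_surjective c
  have hcl : ∀ g : G, IsConj x (Φ g x) ∨ IsConj x' (Φ g x) := fun g =>
    h1 (Φ g x) (by rw [MulEquiv.orderOf_eq, hx])
  have hab' : ∀ g g' : G, IsConj (Φ g' x) (Φ g x) → (QuotientGroup.mk g : G ⧸ f.range) = QuotientGroup.mk g' := by
    intro g g' h
    obtain ⟨s, hs⟩ := isConj_iff.1 h
    exact QuotientGroup.eq.2 (key g g' s hs)
  rcases hcl a with h6 | h6 <;> rcases hcl b with h7 | h7
  · exact hab (hab' a b (h7.symm.trans h6))
  · rcases hcl c with h8 | h8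
    · exact hac (hab' a c (h8.symm.trans h6))
    · exact hbc (hab' b c (h8.symm.trans h7))
  · rcases hcl c with h8 | h8
    · exact hbc (hab' b c (h8.symm.trans h7))
    · exact hac (hab' a c (h8.symm.trans h6))
  · exact hab (hab' a b (h7.symm.trans h6))

/-- in index two, fusion outside makes all elements outside vanish -/
theorem van_of_index_two [Finite G] (N : Subgroup G) [hN : N.Normal] (hi : N.index = 2) {x y : N}
    (h1 : ¬ IsConj x y) (h2 : IsConj (x : G) y) {z : G} (hz : z ∉ N) : Van G z := by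
  classical
  have := Fintype.ofFinite G
  have := Fintype.ofFinite N
  -- a character separating `x` and `y`
  obtain ⟨θ, hθ, hne⟩ : ∃ θ : N → ℂ, IsIrrCharacter N θ ∧ θ x ≠ θ y := by
    by_contra hcon
    push Not at hcon
    exact h1 (Cfsg.Agent.Characters.GaloisIrr.isConj_of_forall_irr hcon)
  obtain ⟨g, hg⟩ := isConj_iff.1 h2
  have hcls : ∀ (n : N) (m : N), θ (n * m * n⁻¹) = θ m := fun n m =>
    Cfsg.Agent.Characters.Core.isIrr_isClassFunction hθ m n
  have hgN : g ∉ N := by
    intro h
    apply hne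
    have h3 : (⟨g, h⟩ : N) * x * (⟨g, h⟩ : N)⁻¹ = y := Subtype.ext hg
    rw [← h3, hcls]
  have hirr : IsIrrCharacter G (indFun N θ) := by
    apply Cfsg.Agent.OddOrderCharacters.IndRes.isIrr_indFun_of_stabilizer N hθ
    intro k hk
    by_contra hkN
    apply hne
    -- `k = n g`
    have h3 : k * g⁻¹ ∈ N := by
      rw [Subgroup.mul_mem_iff_of_index_two hi, N.inv_mem_iff]
      simp [hkN, hgN]
    have h4 := congrFun hk x
    rw [Cfsg.Agent.OddOrderCharacters.NormalInduced.conjFn_apply] at h4
    rw [← h4]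
    have h5 : (⟨k * x * k⁻¹, hN.conj_mem x x.2 k⟩ : N) = ⟨k * g⁻¹, h3⟩ * y * (⟨k * g⁻¹, h3⟩ : N)⁻¹ := by
      apply Subtype.ext
      simp only [Subgroup.coe_mul, Subgroup.coe_inv, ← hg]
      group
    rw [h5, hcls]
  exact ⟨⟨_, hirr⟩, Cfsg.Agent.CharactersDeep.NormalInd.indFun_of_not_mem N θ hz⟩

/-- index two, with an element of order four in the socle and all elements of order at least three `VZ` -/
theorem not_star_index_two [Finite S] [Finite G] (f : S →* G) (hf : Function.Injective f) (hN : f.range.Normal)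
    (hi : f.range.index = 2) (hna : ∃ a b : S, a * b ≠ b * a) {y : S} (hy : orderOf y = 4)
    (hvz : ∀ x : S, 2 < orderOf x → VZ S x) {x x' : S} (hx : 2 < orderOf x) (hxx : orderOf x' = orderOf x)
    (hc : ¬ IsConj x x') : ¬ Cfsg.Agent.H713.Star G := by
  intro hG
  have hG' := hG
  -- all elements outside vanish
  have h1 : IsConj (f x) (f x') :=
    hG.isConj (van_of_vz f hf hN (hvz x hx)) (van_of_vz f hf hN (hvz x' (by omega))) hx
      (by rw [orderOf_injective f hf]) (by rw [orderOf_injective f hf, hxx]) (orderOf_pos _)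
  have hout : ∀ z : G, z ∉ f.range → Van G z := by
    intro z hz
    refine van_of_index_two f.range hi (x := ⟨f x, x, rfl⟩) (y := ⟨f x', x', rfl⟩) ?_ h1 hz
    intro h
    obtain ⟨⟨_, s, rfl⟩, hs⟩ := isConj_iff.1 h
    apply hc
    refine isConj_iff.2 ⟨s, hf ?_⟩
    have := congrArg Subtype.val hs
    simpa using this
  -- no element outside has order with a common divisor greater than two with an element of the socle
  have hno : ∀ z : G, z ∉ f.range → ∀ s : S, 2 < orderOf s → ∀ d, 2 < d → d ∣ orderOf z → d ∣ orderOf s → False := by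
    intro z hz s hs d hd hdz hds
    have h2 : IsConj (f s) z := hG.isConj (van_of_vz f hf hN (hvz s hs)) (hout z hz) hd
      (by rwa [orderOf_injective f hf]) hdz (orderOf_pos _)
    obtain ⟨c, hc⟩ := isConj_iff.1 h2
    exact hz (hc ▸ hN.conj_mem _ ⟨s, rfl⟩ c)
  have hsq : ∀ z : G, z ∉ f.range → z * z = 1 := by
    intro z hz
    obtain ⟨s, hs⟩ : z * z ∈ f.range := Subgroup.mul_self_mem_of_index_two hi z
    by_cases h2 : 2 < orderOf s
    · exfalso
      refine hno z hz s h2 (orderOf s) h2 ?_ dvd_rfl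
      have h3 : orderOf (z * z) ∣ orderOf z := by
        rw [← sq]
        exact orderOf_pow_dvd 2
      rwa [← hs, orderOf_injective f hf] at h3
    · have h3 : orderOf s = 1 ∨ orderOf s = 2 := by
        have := orderOf_pos s
        omega
      rcases h3 with h3 | h3
      · rw [orderOf_eq_one_iff] at h3
        rw [← hs, h3, map_one]
      · exfalso
        refine hno z hz y (by omega) 4 (by norm_num) ?_ (by rw [hy])
        have h4 : orderOf (z ^ 2) = 2 := by
          rw [sq, ← hs, orderOf_injective f hf, h3]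
        have h5 : orderOf (z ^ 2) = orderOf z / Nat.gcd (orderOf z) 2 := orderOf_pow z
        have h6 : Nat.gcd (orderOf z) 2 ∣ 2 := Nat.gcd_dvd_right _ _
        rcases (Nat.dvd_prime Nat.prime_two).1 h6 with h7 | h7
        · exfalso
          rw [h7, Nat.div_one] at h5
          have h8 : orderOf z = 2 := by rw [← h5, h4]
          rw [h8] at h7
          norm_num at h7
        · rw [h7] at h5
          have h8 : 2 ∣ orderOf z := by rw [← h7]; exact Nat.gcd_dvd_left _ _
          omega
  -- hence the socle is abelian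
  obtain ⟨z, hz⟩ : ∃ z, z ∉ f.range := by
    by_contra hcon
    push Not at hcon
    have : f.range = ⊤ := by
      rw [eq_top_iff]
      intro g _
      exact hcon g
    rw [this, Subgroup.index_top] at hi
    norm_num at hi
  have hz1 := hsq z hz
  have hinv : ∀ s : S, z * f s * z⁻¹ = (f s)⁻¹ := by
    intro s
    have h2 : z * f s ∉ f.range := fun h => hz (by
      have := f.range.mul_mem h (f.range.inv_mem ⟨s, rfl⟩)
      rwa [mul_inv_cancel_right] at this)
    have h3 := hsq _ h2
    have h4 : z⁻¹ = z := inv_eq_of_mul_eq_one_left hz1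
    rw [eq_inv_iff_mul_eq_one, h4]
    rw [← mul_assoc] at h3
    exact h3
  obtain ⟨a, b, hab⟩ := hna
  apply hab
  apply hf
  rw [map_mul, map_mul]
  have h2 := hinv (a * b)
  have h3 : z * f (a * b) * z⁻¹ = (z * f a * z⁻¹) * (z * f b * z⁻¹) := by
    rw [map_mul]
    group
  rw [h3, hinv, hinv, map_mul, mul_inv_rev] at h2
  have h4 := congrArg (fun g => g⁻¹) h2
  simp only [mul_inv_rev, inv_inv] at h4
  exact h4.symm

end Cfsg.Agent.H714.SmallIndex
end

-- part: H714/PslRow
section
set_option linter.all false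
open scoped Cfsg.Agent.FastGrp

-- part: H714/PslVan
section
/-!
# Vanishing elements of `PSL₂(q)`, `q` odd (helper714)

* `vz` : every element of order at least three of `PSL₂(q)`, `q ≥ 5` odd, is a `VZ` element.
-/

set_option autoImplicit false
set_option linter.unusedSectionVars false

namespace Cfsg.Agent.H714.PslVan

open Matrix Matrix.SpecialLinearGroup MatrixGroups Cfsg.Agent.H140 Cfsg.Agent.H713 Cfsg PslTor

/-- In a doubly transitive group of degree `n` and order `n (n - 1) m`, elements of prime order `p`, `p ∤ m`, `p ∣ n - 1`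
have exactly one fixed point. -/
theorem card_fixedBy_eq_one {G X : Type*} [Group G] [Finite G] [MulAction G X] [Finite X]
    (h2 : MulAction.IsMultiplyPretransitive G X 2) {n m p : ℕ} [hp : Fact p.Prime] (hn : Nat.card X = n + 1)
    (hG : Nat.card G = (n + 1) * n * m) (hpn : p ∣ n) (hpm : ¬ p ∣ m) (hm : 0 < n) {x : G} (hx : orderOf x = p) :
    Nat.card (MulAction.fixedBy X x) = 1 := by
  classical
  have := Fintype.ofFinite X
  have hpre : MulAction.IsPretransitive G X := MulAction.isPretransitive_of_is_two_pretransitive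
  -- at least one fixed point
  have h1 : Nat.card X ≡ Nat.card (MulAction.fixedPoints (Subgroup.zpowers x) X) [MOD p] := by
    apply IsPGroup.card_modEq_card_fixedPoints
    exact IsPGroup.of_card (n := 1) (by rw [Nat.card_zpowers, hx, pow_one])
  have h3 : MulAction.fixedPoints (Subgroup.zpowers x) X = MulAction.fixedBy X x := by
    ext a
    rw [MulAction.mem_fixedPoints, MulAction.mem_fixedBy]
    constructor
    · intro h
      exact h ⟨x, Subgroup.mem_zpowers x⟩
    · rintro h ⟨_, k, rfl⟩
      have h4 : x ∈ MulAction.stabilizer G a := h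
      exact (MulAction.stabilizer G a).zpow_mem h4 k
  rw [h3, hn] at h1
  have h0 : (n + 1) % p = 1 := by
    obtain ⟨k, rfl⟩ := hpn
    rw [Nat.mul_add_mod]
    exact Nat.mod_eq_of_lt hp.out.one_lt
  have h5 : Nat.card (MulAction.fixedBy X x) ≠ 0 := by
    intro h
    rw [h] at h1
    have h6 : (n + 1) % p = 0 % p := h1
    rw [h0, Nat.zero_mod] at h6
    exact one_ne_zero h6
  -- at most one
  by_contra hne
  have h6 : 1 < Nat.card (MulAction.fixedBy X x) := by omega
  have : Nontrivial (MulAction.fixedBy X x) := Finite.one_lt_card_iff_nontrivial.1 h6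
  obtain ⟨⟨a, ha⟩, ⟨b, hb⟩, hab⟩ := exists_pair_ne (MulAction.fixedBy X x)
  have hab' : a ≠ b := fun h => hab (Subtype.ext h)
  -- the two point stabilizer
  have h7 : (MulAction.stabilizer G a).index = n + 1 := by
    rw [MulAction.index_stabilizer_of_transitive, hn]
  have h8 : Nat.card (MulAction.stabilizer G a) = n * m := by
    have := Subgroup.card_mul_index (MulAction.stabilizer G a)
    rw [h7, hG] at this
    have h9 : Nat.card (MulAction.stabilizer G a) * (n + 1) = (n * m) * (n + 1) := by rw [this]; ring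
    exact Nat.eq_of_mul_eq_mul_right (by omega) h9
  -- orbit of b under the stabilizer of a
  let H := MulAction.stabilizer G a
  have h9 : MulAction.orbit H b = {c | c ≠ a} := by
    ext c
    constructor
    · rintro ⟨⟨g, hg⟩, rfl⟩ hc
      apply hab'
      have h10 : g • b = a := hc
      have h11 : g • a = a := hg
      exact (smul_left_cancel g (h10.trans h11.symm)).symm
    · intro hc
      obtain ⟨g, hg1, hg2⟩ := (MulAction.is_two_pretransitive_iff.1 h2) hab' (Ne.symm hc)
      exact ⟨⟨g, hg1⟩, hg2⟩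
  have h10 : Nat.card (MulAction.orbit H b) = n := by
    rw [h9]
    have h11 : ({c | c ≠ a} : Set X) = {a}ᶜ := rfl
    rw [h11]
    have h12 := Set.ncard_add_ncard_compl ({a} : Set X)
    rw [Set.ncard_singleton, hn] at h12
    change Set.ncard ({a}ᶜ : Set X) = n
    omega
  have h11 : Nat.card (MulAction.orbit H b) * Nat.card (MulAction.stabilizer H b) = Nat.card H := by
    rw [← Nat.card_prod]
    exact Nat.card_congr (MulAction.orbitProdStabilizerEquivGroup H b)
  rw [h10] at h11
  have h12 : Nat.card (MulAction.stabilizer H b) = m := by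
    have h13 : n * Nat.card (MulAction.stabilizer H b) = n * m := by rw [h11]; exact h8
    exact Nat.eq_of_mul_eq_mul_left hm h13
  apply hpm
  rw [← h12, ← hx]
  have ha' : x ∈ H := ha
  have h14 : (⟨x, ha'⟩ : H) ∈ MulAction.stabilizer H b := hb
  have h15 := orderOf_dvd_natCard (⟨⟨x, ha'⟩, h14⟩ : MulAction.stabilizer H b)
  rwa [Subgroup.orderOf_mk, Subgroup.orderOf_mk] at h15

variable {F : Type*} [Field F] [Fintype F]

theorem card_line : Nat.card (Projectivization F (Fin 2 → F)) = Fintype.card F + 1 := by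
  rw [Projectivization.card_of_finrank_two F (Fin 2 → F) (by simp), Nat.card_eq_fintype_card]

theorem two_pre : MulAction.IsMultiplyPretransitive (ProjectiveSpecialLinearGroup (Fin 2) F)
    (Projectivization F (Fin 2 → F)) 2 := by
  have h : MulAction.IsMultiplyPretransitive (_root_.Matrix.SpecialLinearGroup (Fin 2) F) (Projectivization F (Fin 2 → F)) 2 :=
    inferInstance
  rw [MulAction.is_two_pretransitive_iff] at h ⊢
  intro a b c d hab hcd
  obtain ⟨g, h1, h2⟩ := h hab hcd
  exact ⟨QuotientGroup.mk g, h1, h2⟩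

/-- elements of order `p` -/
theorem vz_unip (hodd : Odd (Fintype.card F)) (p : ℕ) [hp : Fact p.Prime] [CharP F p]
    {x : ProjectiveSpecialLinearGroup (Fin 2) F} (hx : orderOf x = p) :
    VZ (ProjectiveSpecialLinearGroup (Fin 2) F) x := by
  have hfin : Finite (Projectivization F (Fin 2 → F)) := Quotient.finite _
  have hF1 : 1 < Fintype.card F := Fintype.one_lt_card
  have hpre : MulAction.IsPretransitive (ProjectiveSpecialLinearGroup (Fin 2) F)
    (Projectivization F (Fin 2 → F)) := by
    have := two_pre (F := F)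
    exact MulAction.isPretransitive_of_is_two_pretransitive
  have hpF : p ∣ Fintype.card F := by
    rw [← CharP.cast_eq_zero_iff F p]
    exact Nat.cast_card_eq_zero F
  refine ⟨⟨_, (Cfsg.Agent.S0157.result (G := ProjectiveSpecialLinearGroup (Fin 2) F)
    (Projectivization F (Fin 2 → F)) (by rw [card_line]; omega)).2 two_pre⟩, fun α => ?_⟩
  have h1 : Nat.card (MulAction.fixedBy (Projectivization F (Fin 2 → F)) (α x)) = 1 := by
    refine card_fixedBy_eq_one (n := Fintype.card F) (m := (Fintype.card F - 1) / 2) (p := p) two_pre card_line ?_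
      hpF ?_ (by omega) (by rw [MulEquiv.orderOf_eq, hx])
    · have h2 := Cfsg.Agent.ClassicalGeometry.PSL2Basic.card_PSL2_odd F hodd
      obtain ⟨k, hk⟩ := hodd
      rw [hk] at h2 ⊢
      have h3 : (2 * k + 1) ^ 2 - 1 = (2 * k + 1 + 1) * (2 * k) := by
        have : (2 * k + 1) ^ 2 = (2 * k + 1 + 1) * (2 * k) + 1 := by ring
        omega
      rw [h3] at h2
      have h4 : (2 * k + 1 - 1) / 2 = k := by omega
      rw [h4]
      linarith only [h2]
    · intro hd
      obtain ⟨k, hk⟩ := hodd
      rw [hk] at hd hpF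
      have h4 : (2 * k + 1 - 1) / 2 = k := by omega
      rw [h4] at hd
      have h5 : p ∣ 1 := by
        have h6 : p ∣ 2 * k := hd.mul_left 2
        exact (Nat.dvd_add_right h6).1 hpF
      exact hp.out.one_lt.ne' (Nat.dvd_one.1 h5)
  change ((Nat.card (MulAction.fixedBy (Projectivization F (Fin 2 → F)) (α x)) : ℂ) - 1) = 0
  rw [h1]
  simp

/-- **Every element of order at least three of `PSL₂(q)`, `q ≥ 5` odd, is a `VZ` element.** -/
theorem vz (hodd : Odd (Fintype.card F)) {x : ProjectiveSpecialLinearGroup (Fin 2) F} (hx : 2 < orderOf x) :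
    VZ (ProjectiveSpecialLinearGroup (Fin 2) F) x := by
  classical
  have h2 := SLTwo.two_ne_zero_of_odd hodd
  obtain ⟨p, hpc⟩ := CharP.exists F
  have hp : Fact p.Prime := ⟨CharP.char_is_prime F p⟩
  have hpF : p ∣ Fintype.card F := by
    rw [← CharP.cast_eq_zero_iff F p]
    exact Nat.cast_card_eq_zero F
  have hS := tor_split (F := F) hodd
  obtain ⟨T, hT, -, hT2⟩ := exists_tor_nonsplit (F := F) hodd
  have hk := card_conjClasses_le (F := F) hodd
  -- reduction to elements of a torus
  have hconj : ∀ (g y : ProjectiveSpecialLinearGroup (Fin 2) F), VZ _ (g * y * g⁻¹) → VZ _ y := by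
    intro g y h
    have := h.aut (MulAut.conj g⁻¹)
    simpa only [mul_assoc, _root_.map_inv, _root_.MulAut.inv_apply, _root_.MulAut.conj_symm_apply, _root_.inv_mul_cancel_left, _root_.inv_mul_cancel, _root_.mul_one] using this
  have hord : ∀ (g y : ProjectiveSpecialLinearGroup (Fin 2) F), orderOf (g * y * g⁻¹) = orderOf y := by
    intro g y
    have := MulEquiv.orderOf_eq (MulAut.conj g) y
    simpa only [_root_.MulAut.conj_apply] using this
  -- orders
  have hoU : ∀ y : ProjectiveSpecialLinearGroup (Fin 2) F, y ^ p = 1 → 2 < orderOf y → orderOf y = p := by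
    intro y h1 h3
    rcases (Nat.dvd_prime hp.out).1 (orderOf_dvd_of_pow_eq_one h1) with h | h
    · omega
    · exact h
  obtain ⟨k, hk'⟩ := hodd
  have hm1 : (Fintype.card F - 1) / 2 = k := by omega
  have hm2 : (Fintype.card F + 1) / 2 = k + 1 := by omega
  rw [hm1] at hS
  rw [hm2] at hT
  have hpk : ¬ p ∣ k := by
    intro hd
    rw [hk'] at hpF
    exact hp.out.one_lt.ne' (Nat.dvd_one.1 ((Nat.dvd_add_right (hd.mul_left 2)).1 hpF))
  have hpk1 : ¬ p ∣ k + 1 := by
    intro hd
    rw [hk'] at hpF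
    have h6 : p ∣ 2 * (k + 1) := hd.mul_left 2
    have h7 : 2 * (k + 1) = (2 * k + 1) + 1 := by ring
    rw [h7] at h6
    exact hp.out.one_lt.ne' (Nat.dvd_one.1 ((Nat.dvd_add_right hpF).1 h6))
  have hcop : ∀ n, n ∣ k → n ∣ k + 1 → n = 1 := by
    intro n h1 h3
    exact Nat.dvd_one.1 ((Nat.dvd_add_right h1).1 h3)
  -- the torus case
  have htor : ∀ (C : Subgroup SL(2, F)) (m : ℕ), Tor C m → m ≤ k + 1 →
      (∀ y : ProjectiveSpecialLinearGroup (Fin 2) F, orderOf y ∣ m → 2 < orderOf y → ∃ g, g * y * g⁻¹ ∈ bar C) →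
      ∀ y ∈ bar C, 2 < orderOf y → VZ _ y := by
    intro C m hC hmk hex y hy hy2
    have hdm := hC.orderOf_dvd h2 hy
    apply Cfsg.Agent.H419.Count.vz_of_card_lt
    · obtain ⟨t, ht, rfl⟩ := mem_bar.1 hy
      have h1 : t * t ≠ 1 := by
        intro h
        have h3 : orderOf (pr t) ∣ 2 := by
          apply orderOf_dvd_of_pow_eq_one
          have : pr t ^ 2 = pr (t * t) := by rw [sq]; rfl
          rw [this, h]
          rfl
        have := Nat.le_of_dvd (by norm_num) h3
        omega
      have h3 : t * t ≠ -1 := by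
        intro h
        have h3 : orderOf (pr t) ∣ 2 := by
          apply orderOf_dvd_of_pow_eq_one
          have : pr t ^ 2 = pr (t * t) := by rw [sq]; rfl
          rw [this, h, pr_eq_one_iff]
          exact Or.inr rfl
        have := Nat.le_of_dvd (by norm_num) h3
        omega
      have := hC.card_centralizer h2 ht h1 h3
      omega
    · intro α
      obtain ⟨g, hg⟩ := hex (α y) (by rw [MulEquiv.orderOf_eq]; exact hdm) (by rw [MulEquiv.orderOf_eq]; exact hy2)
      exact ⟨g, hC.zpowers_eq hg hy (by rw [hord, MulEquiv.orderOf_eq])⟩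
  have hsplit : ∀ y ∈ bar (SLTwo.split F), 2 < orderOf y → VZ _ y := by
    refine htor _ k hS (by omega) ?_
    intro y hy hy2
    rcases cases p T hT2 y with h | ⟨g, hg⟩ | h
    · exact h
    · exfalso
      have h3 := hT.orderOf_dvd h2 hg
      rw [hord] at h3
      have := hcop _ hy h3
      omega
    · exfalso
      rw [hoU y h hy2] at hy
      exact hpk hy
  have hnon : ∀ y ∈ bar T, 2 < orderOf y → VZ _ y := by
    refine htor _ (k + 1) hT le_rfl ?_
    intro y hy hy2
    rcases cases p T hT2 y with ⟨g, hg⟩ | h | h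
    · exfalso
      have h3 := hS.orderOf_dvd h2 hg
      rw [hord] at h3
      have := hcop _ h3 hy
      omega
    · exact h
    · exfalso
      rw [hoU y h hy2] at hy
      exact hpk1 hy
  rcases cases p T hT2 x with ⟨g, hg⟩ | ⟨g, hg⟩ | h
  · exact hconj g x (hsplit _ hg (by rw [hord]; exact hx))
  · exact hconj g x (hnon _ hg (by rw [hord]; exact hx))
  · exact vz_unip ⟨k, hk'⟩ p (hoU x h hx)

end Cfsg.Agent.H714.PslVan
end

-- part: H714/PslRow
section
/-!
# The row of `PSL₂(q)`, `q ≥ 5` odd, for S4943 (helper714)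
-/

set_option autoImplicit false
set_option linter.unusedSectionVars false

namespace Cfsg.Agent.H714.PslRow

open Matrix Matrix.SpecialLinearGroup MatrixGroups Cfsg.Agent.H140 Cfsg PslTor PslVan RowTools SmallIndex
open Cfsg.Agent.H713

universe u v

variable {F : Type v} [Field F] [Fintype F]

/-- the upper unitriangular elements -/
def un (b : F) : SL(2, F) := SLTwo.mk 1 b 0 1 (by ring)

theorem un00 (b : F) : (un b).1 0 0 = 1 := rfl
theorem un01 (b : F) : (un b).1 0 1 = b := rfl
theorem un10 (b : F) : (un b).1 1 0 = 0 := rfl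
theorem un_ne_one {b : F} (hb : b ≠ 0) : un b ≠ 1 := by
  intro h
  apply hb
  rw [← un01 b, h, SLTwo.one01]

theorem un_ne_neg_one {b : F} (hb : b ≠ 0) : un b ≠ -1 := by
  intro h
  apply hb
  rw [← un01 b, h, SLTwo.neg01, SLTwo.one01, neg_zero]

theorem orderOf_un (p : ℕ) [hp : Fact p.Prime] [CharP F p] {b : F} (hb : b ≠ 0) : orderOf (pr (un b)) = p := by
  classical
  apply orderOf_eq_prime
  · have h1 := (Cfsg.Agent.ClassicalGeometry.PoleBridge.pow_mem_center_iff p (un b) (un10 b)).2
      (by change ((un b).1 0 0) ^ 2 = 1; rw [un00]; ring)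
    exact (QuotientGroup.eq_one_iff _).2 h1
  · intro h
    rw [pr_eq_one_iff] at h
    rcases h with h | h
    · exact un_ne_one hb h
    · exact un_ne_neg_one hb h

/-- two non-conjugate elements of order `p` -/
theorem exists_not_isConj (hodd : Odd (Fintype.card F)) (p : ℕ) [hp : Fact p.Prime] [CharP F p] :
    ∃ x y : ProjectiveSpecialLinearGroup (Fin 2) F, orderOf x = p ∧ orderOf y = p ∧ ¬ IsConj x y := by
  have h2 := SLTwo.two_ne_zero_of_odd hodd
  have hp2 : p ≠ 2 := by
    rintro rfl
    exact h2 (CharP.cast_eq_zero F 2)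
  obtain ⟨b, hb⟩ := SLTwo.exists_not_isSquare (F := F) hodd
  have hb0 : b ≠ 0 := by
    rintro rfl
    exact hb IsSquare.zero
  refine ⟨pr (un 1), pr (un b), orderOf_un p one_ne_zero, orderOf_un p hb0, fun hc => ?_⟩
  obtain ⟨y, hy⟩ := isConj_iff.1 hc
  obtain ⟨D, rfl⟩ := QuotientGroup.mk_surjective y
  have h1 : pr (D * un 1 * D⁻¹) = pr (un b) := hy
  have htr : ∀ c : F, (un c : Matrix (Fin 2) (Fin 2) F).trace = 2 := by
    intro c
    rw [Matrix.trace_fin_two]
    have e1 : (un c : Matrix (Fin 2) (Fin 2) F) 0 0 = 1 := rfl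
    have e2 : (un c : Matrix (Fin 2) (Fin 2) F) 1 1 = 1 := rfl
    rw [e1, e2]
    norm_num
  rw [pr_eq_iff] at h1
  rcases h1 with h1 | h1
  · have h3 : IsConj (un (1 : F)) (un b) := isConj_iff.2 ⟨D, h1.symm⟩
    have h4 := ((Cfsg.Agent.S2301.result (F := F) p hp2).2.2 (un 1) (un b) rfl rfl rfl one_ne_zero rfl rfl rfl
      (by change b ≠ 0; exact hb0)).1 h3
    have e1 : (un (1 : F) : Matrix (Fin 2) (Fin 2) F) 0 1 = 1 := rfl
    have e2 : (un b : Matrix (Fin 2) (Fin 2) F) 0 1 = b := rfl
    rw [e1, e2, one_mul] at h4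
    exact hb h4
  · have h4 : ((D * un 1 * D⁻¹ : SL(2, F)) : Matrix (Fin 2) (Fin 2) F).trace
        = (un (1 : F) : Matrix (Fin 2) (Fin 2) F).trace := by
      rw [Matrix.SpecialLinearGroup.coe_mul, Matrix.SpecialLinearGroup.coe_mul, Matrix.trace_mul_comm,
        ← Matrix.mul_assoc, ← Matrix.SpecialLinearGroup.coe_mul, inv_mul_cancel]
      simp
    have h5 : D * un 1 * D⁻¹ = -un b := by rw [h1, neg_neg]
    rw [h5, Matrix.SpecialLinearGroup.coe_neg, Matrix.trace_neg, htr, htr] at h4
    have h6 : (2 : F) * 2 = 0 := by linear_combination -h4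
    rcases mul_eq_zero.1 h6 with h | h <;> exact h2 h

theorem exists_char (F : Type*) [Field F] [Fintype F] (hodd : Odd (Fintype.card F)) :
    ∃ p : ℕ, ∃ _ : Fact p.Prime, ∃ _ : CharP F p, 2 < p := by
  obtain ⟨p, hpc⟩ := CharP.exists F
  have hp : Fact p.Prime := ⟨CharP.char_is_prime F p⟩
  refine ⟨p, hp, hpc, lt_of_le_of_ne hp.out.two_le ?_⟩
  rintro rfl
  exact SLTwo.two_ne_zero_of_odd hodd (CharP.cast_eq_zero F 2)

/-- **`PSL₂(q)`, `q` odd, does not have the property `Star`.** -/
theorem not_star_self (hodd : Odd (Fintype.card F)) :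
    ¬ Cfsg.Agent.H713.Star (ProjectiveSpecialLinearGroup (Fin 2) F) := by
  intro h
  obtain ⟨p, hp, hpc, hp2⟩ := exists_char F hodd
  obtain ⟨x, y, hx, hy, hxy⟩ := exists_not_isConj hodd p
  exact hxy (h.isConj (vz hodd (by omega)).van (vz hodd (by omega)).van hp2 (by rw [hx]) (by rw [hy]) (orderOf_pos _))

theorem exists_orderOf (h2 : (2 : F) ≠ 0) {T : Subgroup SL(2, F)} {m : ℕ} (h : Tor T m) {n : ℕ} (hn : n ∣ m)
    (hm : 0 < m) : ∃ x ∈ bar T, orderOf x = n := by
  have := h.isCyclic_bar
  obtain ⟨g, hg⟩ := IsCyclic.exists_ofOrder_eq_natCard (α := bar T)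
  rw [h.card_bar h2] at hg
  obtain ⟨k, rfl⟩ := hn
  refine ⟨((g ^ k : bar T) : ProjectiveSpecialLinearGroup (Fin 2) F), (g ^ k).2, ?_⟩
  rw [Subgroup.orderOf_coe, orderOf_pow, hg]
  have hk : 0 < k := Nat.pos_of_mul_pos_left hm
  rw [Nat.gcd_eq_right (dvd_mul_left k n), Nat.mul_div_cancel _ hk]

/-- **The row of `PSL₂(q)`, `q ≥ 11` odd.** -/
theorem row_big (hodd : Odd (Fintype.card F)) (h11 : 11 ≤ Fintype.card F) :
    Row.{u, v} (ProjectiveSpecialLinearGroup (Fin 2) F) := by
  have h2 := SLTwo.two_ne_zero_of_odd hodd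
  have hS := tor_split (F := F) hodd
  obtain ⟨T, hT, -, -⟩ := exists_tor_nonsplit (F := F) hodd
  obtain ⟨k, hk⟩ := hodd
  have hm1 : (Fintype.card F - 1) / 2 = k := by omega
  have hm2 : (Fintype.card F + 1) / 2 = k + 1 := by omega
  rw [hm1] at hS
  rw [hm2] at hT
  obtain ⟨C, m, hC, hm6, hme⟩ : ∃ (C : Subgroup SL(2, F)) (m : ℕ), Tor C m ∧ 6 ≤ m ∧ Even m := by
    rcases Nat.even_or_odd k with he | ho
    · refine ⟨_, k, hS, ?_, he⟩
      obtain ⟨j, hj⟩ := he
      omega
    · refine ⟨_, k + 1, hT, ?_, ?_⟩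
      · obtain ⟨j, hj⟩ := ho
        omega
      · exact ho.add_one
  obtain ⟨j, hj⟩ := hme
  obtain ⟨x, -, hx⟩ := exists_orderOf h2 hC (dvd_refl m) (by omega)
  obtain ⟨y, -, hy⟩ := exists_orderOf h2 hC (n := j) ⟨2, by omega⟩ (by omega)
  refine row_of_orders (x := x) (y := y) (vz ⟨k, hk⟩ (by omega)) (vz ⟨k, hk⟩ (by omega)) (d := j) (by omega)
    ⟨2, by omega⟩ (by rw [hy]) (by omega)

/-! ### the small cases -/

/-- elements of prime order `r` conjugate into a torus -/
theorem exists_pow {T : Subgroup SL(2, F)} {m r : ℕ} (hT : Tor T m)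
    {x : ProjectiveSpecialLinearGroup (Fin 2) F} (hx : x ∈ bar T) (hxr : orderOf x = r) (hr : 0 < r)
    {y : ProjectiveSpecialLinearGroup (Fin 2) F} (hy : orderOf y = r) (hyT : ∃ g, g * y * g⁻¹ ∈ bar T) :
    ∃ j < r, IsConj (x ^ j) y := by
  obtain ⟨g, hg⟩ := hyT
  have hord : orderOf (g * y * g⁻¹) = r := by
    have := MulEquiv.orderOf_eq (MulAut.conj g) y
    rw [← hy]
    simpa only [_root_.MulAut.conj_apply] using this
  have h1 := hT.zpowers_eq hx hg (by rw [hxr, hord])
  have h3 : g * y * g⁻¹ ∈ Subgroup.zpowers x := by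
    rw [h1]
    exact Subgroup.mem_zpowers _
  rw [← mem_powers_iff_mem_zpowers] at h3
  obtain ⟨j, hj⟩ := h3
  refine ⟨j % r, Nat.mod_lt _ hr, ?_⟩
  have h4 : x ^ (j % r) = x ^ j := by rw [← hxr, pow_mod_orderOf]
  rw [h4]
  have hj' : x ^ j = g * y * g⁻¹ := hj
  rw [hj']
  exact (isConj_iff.2 ⟨g, rfl⟩ : IsConj y (g * y * g⁻¹)).symm

/-- inversion in a torus -/
theorem isConj_inv {T : Subgroup SL(2, F)} {s : SL(2, F)} (hs : ∀ t ∈ T, s⁻¹ * t * s = t⁻¹)
    {x : ProjectiveSpecialLinearGroup (Fin 2) F} (hx : x ∈ bar T) : IsConj x x⁻¹ := by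
  obtain ⟨t, ht, rfl⟩ := mem_bar.1 hx
  refine isConj_iff.2 ⟨(pr s)⁻¹, ?_⟩
  have h1 : pr (s⁻¹ * t * s) = pr t⁻¹ := by rw [hs t ht]
  rw [inv_inv]
  exact h1

theorem card_out {p f : ℕ} [Fact p.Prime] (hp : p ≠ 2) (hf : 1 ≤ f) (hF : Fintype.card F = p ^ f) (h4 : 4 ≤ p ^ f) :
    Nat.card (Out (ProjectiveSpecialLinearGroup (Fin 2) F)) = 2 * f := by
  obtain ⟨φ, hφ, -, hk⟩ := Cfsg.Agent.S2602.result (F := F) hf hF h4
  have h1 := Subgroup.card_mul_index φ.ker
  rw [Subgroup.index_ker, MonoidHom.range_eq_top.2 hφ, Subgroup.card_top, hk] at h1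
  have h2 : Nat.card (Multiplicative (ZMod f)) = f := by
    rw [Nat.card_congr Multiplicative.toAdd, Nat.card_zmod]
  have h3 : Nat.gcd 2 (p ^ f - 1) = 2 := by
    have hpo : Odd p := (Fact.out : p.Prime).odd_of_ne_two hp
    have h5 : Odd (p ^ f) := hpo.pow
    apply Nat.gcd_eq_left
    exact (Nat.Odd.sub_odd h5 odd_one).two_dvd
  rw [h2, h3] at h1
  exact h1.symm

theorem mul_ne (h2 : (2 : F) ≠ 0) : ∃ a b : ProjectiveSpecialLinearGroup (Fin 2) F, a * b ≠ b * a := by
  refine ⟨pr (un 1), pr (SLTwo.wl F), fun h => ?_⟩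
  have h1 : pr (un 1 * SLTwo.wl F) = pr (SLTwo.wl F * un 1) := h
  rw [pr_eq_iff] at h1
  have e1 : (un 1 * SLTwo.wl F).1 0 0 = -1 := by
    rw [SLTwo.mul00, un00, un01]
    simp [SLTwo.wl, SLTwo.mk]
  have e2 : (SLTwo.wl F * un 1).1 0 0 = 0 := by
    rw [SLTwo.mul00, un00, un10]
    simp [SLTwo.wl, SLTwo.mk]
  rcases h1 with h1 | h1
  · rw [h1, e1] at e2
    exact one_ne_zero (neg_eq_zero.1 e2)
  · rw [h1, SLTwo.neg00, e1, neg_neg] at e2
    exact one_ne_zero e2

/-- The cases `q = 5, 7`. -/
theorem row_three (hodd : Odd (Fintype.card F)) {p : ℕ} [hp : Fact p.Prime] (hF : Fintype.card F = p)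
    (h5 : p = 5 ∨ p = 7) (T : Subgroup SL(2, F)) (hT : Tor T 3) (s : SL(2, F)) (hs : ∀ t ∈ T, s⁻¹ * t * s = t⁻¹)
    (hconj : ∀ y : ProjectiveSpecialLinearGroup (Fin 2) F, orderOf y = 3 → ∃ g, g * y * g⁻¹ ∈ bar T)
    (hDZ : Cfsg.Agent.H665.NoPQ.HasDZ 3 (ProjectiveSpecialLinearGroup (Fin 2) F)) :
    Row.{u, v} (ProjectiveSpecialLinearGroup (Fin 2) F) where
  vz := by
    obtain ⟨x, -, hx⟩ := exists_orderOf (SLTwo.two_ne_zero_of_odd hodd) hT (dvd_refl 3) (by norm_num)
    exact ⟨x, by omega, PslVan.vz hodd (by omega)⟩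
  as := by
    intro G _ _ f hf hN hc
    have h2 := SLTwo.two_ne_zero_of_odd hodd
    obtain ⟨x, hxT, hx⟩ := exists_orderOf h2 hT (dvd_refl 3) (by norm_num)
    have hout := card_out (F := F) (p := p) (f := 1) (by omega) le_rfl (by rw [hF, pow_one])
      (by rw [pow_one]; omega)
    have hidx := index_dvd_card_out f hf hN hc
    rw [hout, mul_one] at hidx
    by_cases htop : f.range = ⊤
    · intro hG
      have hs : Function.Surjective f := MonoidHom.range_eq_top.1 htop
      exact not_star_self hodd (hG.mulEquiv (MulEquiv.ofBijective f ⟨hf, hs⟩).symm)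
    · have : Fact (Nat.Prime 3) := ⟨Nat.prime_three⟩
      refine not_star_one f hf hN (r := 3) (by norm_num) hDZ ?_ hx ?_ htop
      · intro h3
        have := h3.trans hidx
        omega
      · intro y hy
        obtain ⟨j, hj, hjy⟩ := exists_pow hT hxT hx (by norm_num) hy (hconj y hy)
        have hx3 : x ^ 3 = 1 := by rw [← hx]; exact pow_orderOf_eq_one x
        interval_cases j
        · rw [pow_zero] at hjy
          have h6 : y = 1 := (isConj_one_right.1 hjy)
          rw [h6, orderOf_one] at hy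
          omega
        · rwa [pow_one] at hjy
        · have h6 : x ^ 2 = x⁻¹ := by
            rw [eq_inv_iff_mul_eq_one, ← pow_succ]
            exact hx3
          rw [h6] at hjy
          exact (isConj_inv hs hxT).trans hjy

/-- conjugacy into a torus for orders prime to the others -/
theorem exists_mem_of_order (hodd : Odd (Fintype.card F)) {k : ℕ} (hk : Fintype.card F = 2 * k + 1)
    (T : Subgroup SL(2, F)) (hT : Tor T (k + 1)) (hT2 : ∀ g, SLTwo.NoEig g → ∃ h, h * g * h⁻¹ ∈ T)
    {y : ProjectiveSpecialLinearGroup (Fin 2) F} (p : ℕ) [Fact p.Prime] [CharP F p] (hp : ¬ orderOf y ∣ p) :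
    (orderOf y ∣ k ∧ ∃ g, g * y * g⁻¹ ∈ bar (SLTwo.split F)) ∨
      (orderOf y ∣ k + 1 ∧ ∃ g, g * y * g⁻¹ ∈ bar T) := by
  have h2 := SLTwo.two_ne_zero_of_odd hodd
  have hS := tor_split (F := F) hodd
  have hm1 : (Fintype.card F - 1) / 2 = k := by omega
  rw [hm1] at hS
  have hord : ∀ (g y : ProjectiveSpecialLinearGroup (Fin 2) F), orderOf (g * y * g⁻¹) = orderOf y := by
    intro g y
    have := MulEquiv.orderOf_eq (MulAut.conj g) y
    simpa only [_root_.MulAut.conj_apply] using this
  rcases cases p T hT2 y with ⟨g, hg⟩ | ⟨g, hg⟩ | h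
  · left
    refine ⟨?_, g, hg⟩
    have := hS.orderOf_dvd h2 hg
    rwa [hord] at this
  · right
    refine ⟨?_, g, hg⟩
    have := hT.orderOf_dvd h2 hg
    rwa [hord] at this
  · exact absurd (orderOf_dvd_of_pow_eq_one h) hp

theorem card_centralizer_eq (h2 : (2 : F) ≠ 0) {T : Subgroup SL(2, F)} {m : ℕ} (hT : Tor T m)
    {x : ProjectiveSpecialLinearGroup (Fin 2) F} (hx : x ∈ bar T) (hxm : orderOf x = m) (hm : 2 < m) :
    Nat.card (Subgroup.centralizer ({x} : Set (ProjectiveSpecialLinearGroup (Fin 2) F))) = m := by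
  obtain ⟨t, ht, rfl⟩ := mem_bar.1 hx
  apply le_antisymm
  · have hsq : pr t ^ 2 = pr (t * t) := by rw [sq]; rfl
    apply hT.card_centralizer h2 ht
    · intro h
      have h3 : orderOf (pr t) ∣ 2 := by
        apply orderOf_dvd_of_pow_eq_one
        rw [hsq, h]
        rfl
      have := Nat.le_of_dvd (by norm_num) h3
      omega
    · intro h
      have h3 : orderOf (pr t) ∣ 2 := by
        apply orderOf_dvd_of_pow_eq_one
        rw [hsq, h, pr_eq_one_iff]
        exact Or.inr rfl
      have := Nat.le_of_dvd (by norm_num) h3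
      omega
  · have h1 : Subgroup.zpowers (pr t) ≤ Subgroup.centralizer ({pr t} : Set (ProjectiveSpecialLinearGroup (Fin 2) F)) := by
      rw [Subgroup.zpowers_le, Subgroup.mem_centralizer_singleton_iff]
    have h3 := Nat.card_le_card_of_injective _ (Subgroup.inclusion_injective h1)
    rwa [Nat.card_zpowers, hxm] at h3

theorem card_psl (hodd : Odd (Fintype.card F)) {q : ℕ} (hF : Fintype.card F = q) :
    Nat.card (ProjectiveSpecialLinearGroup (Fin 2) F) * 2 = q * (q ^ 2 - 1) := by
  have := Cfsg.Agent.ClassicalGeometry.PSL2Basic.card_PSL2_odd F hodd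
  rwa [hF] at this

theorem fact_one {p m : ℕ} (hp : p.Prime) (hm : ¬ p ∣ m) : (p * m).factorization p = 1 := by
  have hm0 : m ≠ 0 := by
    rintro rfl
    simp at hm
  rw [Nat.factorization_mul hp.ne_zero hm0, Finsupp.add_apply, hp.factorization_self,
    Nat.factorization_eq_zero_of_not_dvd hm]

theorem charP_of {q p : ℕ} [hp : Fact p.Prime] (hodd : Odd (Fintype.card F)) (hF : Fintype.card F = q)
    (hq : ∀ r : ℕ, r.Prime → r ∣ q → r = p) : CharP F p := by
  obtain ⟨r, hr, hrc, -⟩ := exists_char F hodd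
  have h1 : r ∣ Fintype.card F := by
    rw [← CharP.cast_eq_zero_iff F r]
    exact Nat.cast_card_eq_zero F
  rw [hF] at h1
  have h3 : r = p := hq r hr.out h1
  rwa [h3] at hrc

/-- `q = 5` -/
theorem row_five (hF : Fintype.card F = 5) : Row.{u, v} (ProjectiveSpecialLinearGroup (Fin 2) F) := by
  have hodd : Odd (Fintype.card F) := by rw [hF]; decide
  have h2 := SLTwo.two_ne_zero_of_odd hodd
  have hp5 : Fact (Nat.Prime 5) := ⟨by norm_num⟩
  have hp3 : Fact (Nat.Prime 3) := ⟨by norm_num⟩
  have hch : CharP F 5 := charP_of hodd hF fun r hr h => (Nat.prime_dvd_prime_iff_eq hr hp5.out).1 h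
  have hS := tor_split (F := F) hodd
  obtain ⟨T, s, hT, -, hT2, hinv⟩ := exists_tor_nonsplit' (F := F) hodd
  rw [hF] at hS hT
  norm_num at hS hT
  obtain ⟨x, hxT, hx⟩ := exists_orderOf h2 hT (dvd_refl 3) (by norm_num)
  obtain ⟨y, -, hy⟩ := exists_orderOf h2 hS (dvd_refl 2) (by norm_num)
  have hcard : Nat.card (ProjectiveSpecialLinearGroup (Fin 2) F) = 60 := by
    have := card_psl hodd hF
    omega
  refine row_three hodd (p := 5) hF (Or.inl rfl) T hT s hinv ?_ ?_
  · intro y hy
    rcases exists_mem_of_order hodd (k := 2) (by omega) T hT hT2 (y := y) 5 (by rw [hy]; decide) with h | h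
    · rw [hy] at h
      exact absurd h.1 (by decide)
    · exact h.2
  · refine Cfsg.Agent.H713.hasDZ_of_orders ?_ hx (card_centralizer_eq h2 hT hxT hx (by norm_num)) {1, 2, 5} ?_ ?_
    · rw [hcard]
      exact fact_one (m := 20) (by norm_num) (by norm_num)
    · intro n hn
      simp only [Finset.mem_insert, Finset.mem_singleton] at hn
      rcases hn with rfl | rfl | rfl
      · exact ⟨by norm_num, 1, orderOf_one⟩
      · exact ⟨by norm_num, y, hy⟩
      · exact ⟨by norm_num, pr (un 1), orderOf_un 5 one_ne_zero⟩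
    · rw [hcard]
      decide

/-- `q = 7` -/
theorem row_seven (hF : Fintype.card F = 7) : Row.{u, v} (ProjectiveSpecialLinearGroup (Fin 2) F) := by
  have hodd : Odd (Fintype.card F) := by rw [hF]; decide
  have h2 := SLTwo.two_ne_zero_of_odd hodd
  have hp7 : Fact (Nat.Prime 7) := ⟨by norm_num⟩
  have hp3 : Fact (Nat.Prime 3) := ⟨by norm_num⟩
  have hch : CharP F 7 := charP_of hodd hF fun r hr h => (Nat.prime_dvd_prime_iff_eq hr hp7.out).1 h
  have hS := tor_split (F := F) hodd
  obtain ⟨T, s, hT, -, hT2, hinv⟩ := exists_tor_nonsplit' (F := F) hodd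
  rw [hF] at hS hT
  norm_num at hS hT
  obtain ⟨x, hxT, hx⟩ := exists_orderOf h2 hS (dvd_refl 3) (by norm_num)
  obtain ⟨y, -, hy⟩ := exists_orderOf h2 hT (n := 2) (by norm_num) (by norm_num)
  obtain ⟨z, -, hz⟩ := exists_orderOf h2 hT (n := 4) (by norm_num) (by norm_num)
  have hcard : Nat.card (ProjectiveSpecialLinearGroup (Fin 2) F) = 168 := by
    have := card_psl hodd hF
    omega
  refine row_three hodd (p := 7) hF (Or.inr rfl) (SLTwo.split F) hS (SLTwo.wl F) (SLTwo.split_data h2).inv ?_ ?_
  · intro y hy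
    rcases exists_mem_of_order hodd (k := 3) (by omega) T hT hT2 (y := y) 7 (by rw [hy]; decide) with h | h
    · exact h.2
    · rw [hy] at h
      exact absurd h.1 (by decide)
  · refine Cfsg.Agent.H713.hasDZ_of_orders ?_ hx (card_centralizer_eq h2 hS hxT hx (by norm_num)) {1, 2, 4} ?_ ?_
    · rw [hcard]
      exact fact_one (m := 56) (by norm_num) (by norm_num)
    · intro n hn
      simp only [Finset.mem_insert, Finset.mem_singleton] at hn
      rcases hn with rfl | rfl | rfl
      · exact ⟨by norm_num, 1, orderOf_one⟩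
      · exact ⟨by norm_num, y, hy⟩
      · exact ⟨by norm_num, z, hz⟩
    · rw [hcard]
      decide

/-- `q = 9` -/
theorem row_nine (hF : Fintype.card F = 9) : Row.{u, v} (ProjectiveSpecialLinearGroup (Fin 2) F) where
  vz := by
    have hodd : Odd (Fintype.card F) := by rw [hF]; decide
    obtain ⟨p, hp, hpc, hp2⟩ := exists_char F hodd
    obtain ⟨x, y, hx, hy, hxy⟩ := exists_not_isConj hodd p
    exact ⟨x, by omega, PslVan.vz hodd (by omega)⟩
  as := by
    have hodd : Odd (Fintype.card F) := by rw [hF]; decide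
    have h2 := SLTwo.two_ne_zero_of_odd hodd
    have hp5 : Fact (Nat.Prime 5) := ⟨by norm_num⟩
    have hp3 : Fact (Nat.Prime 3) := ⟨by norm_num⟩
    have hch : CharP F 3 := charP_of hodd hF fun r hr h => by
      have h1 : r ∣ 3 ^ 2 := h
      exact (Nat.prime_dvd_prime_iff_eq hr hp3.out).1 (hr.dvd_of_dvd_pow h1)
    have hS := tor_split (F := F) hodd
    obtain ⟨T, s, hT, -, hT2, hinv⟩ := exists_tor_nonsplit' (F := F) hodd
    rw [hF] at hS hT
    norm_num at hS hT
    obtain ⟨x, hxT, hx⟩ := exists_orderOf h2 hT (dvd_refl 5) (by norm_num)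
    obtain ⟨y, -, hy⟩ := exists_orderOf h2 hS (n := 2) (by norm_num) (by norm_num)
    obtain ⟨z, -, hz⟩ := exists_orderOf h2 hS (n := 4) (by norm_num) (by norm_num)
    have hcard : Nat.card (ProjectiveSpecialLinearGroup (Fin 2) F) = 360 := by
      have := card_psl hodd hF
      omega
    have hDZ : Cfsg.Agent.H665.NoPQ.HasDZ 5 (ProjectiveSpecialLinearGroup (Fin 2) F) := by
      refine Cfsg.Agent.H713.hasDZ_of_orders ?_ hx (card_centralizer_eq h2 hT hxT hx (by norm_num)) {1, 2, 4} ?_ ?_
      · rw [hcard]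
        exact fact_one (m := 72) (by norm_num) (by norm_num)
      · intro n hn
        simp only [Finset.mem_insert, Finset.mem_singleton] at hn
        rcases hn with rfl | rfl | rfl
        · exact ⟨by norm_num, 1, orderOf_one⟩
        · exact ⟨by norm_num, y, hy⟩
        · exact ⟨by norm_num, z, hz⟩
      · rw [hcard]
        decide
    intro G _ _ f hf hN hc
    have hout := card_out (F := F) (p := 3) (f := 2) (by norm_num) (by norm_num) (by rw [hF]; norm_num) (by norm_num)
    have hidx := index_dvd_card_out f hf hN hc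
    rw [hout] at hidx
    by_cases htop : f.range = ⊤
    · intro hG
      have hs : Function.Surjective f := MonoidHom.range_eq_top.1 htop
      exact not_star_self hodd (hG.mulEquiv (MulEquiv.ofBijective f ⟨hf, hs⟩).symm)
    · by_cases hi2 : f.range.index = 2
      · obtain ⟨a, b, ha, hb, hab⟩ := exists_not_isConj hodd 3
        exact not_star_index_two f hf hN hi2 (mul_ne h2) hz (fun w hw => PslVan.vz hodd hw) (x := a) (x' := b)
          (by omega) (by omega) hab
      · have hi1 : f.range.index ≠ 1 := fun h => htop (Subgroup.index_eq_one.1 h)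
        have hi0 : f.range.index ≠ 0 := Subgroup.index_ne_zero_of_finite
        have hle : f.range.index ≤ 4 := Nat.le_of_dvd (by norm_num) hidx
        refine not_star_two f hf hN (r := 5) (by norm_num) hDZ ?_ (x := x) (x' := x ^ 2) hx ?_ (by omega)
        · intro h5
          have := Nat.le_of_dvd (by omega) h5
          omega
        · intro w hw
          have hwT : ∃ g, g * w * g⁻¹ ∈ bar T := by
            rcases exists_mem_of_order hodd (k := 4) (by omega) T hT hT2 (y := w) 3 (by rw [hw]; decide) with h | h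
            · rw [hw] at h
              exact absurd h.1 (by decide)
            · exact h.2
          obtain ⟨j, hj, hjy⟩ := exists_pow hT hxT hx (by norm_num) hw hwT
          have hx5 : x ^ 5 = 1 := by rw [← hx]; exact pow_orderOf_eq_one x
          interval_cases j
          · rw [pow_zero] at hjy
            have h6 : w = 1 := (isConj_one_right.1 hjy)
            rw [h6, orderOf_one] at hw
            omega
          · left
            rwa [pow_one] at hjy
          · right
            exact hjy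
          · right
            have h6 : x ^ 3 = (x ^ 2)⁻¹ := by
              rw [eq_inv_iff_mul_eq_one, ← pow_add]
              exact hx5
            rw [h6] at hjy
            exact (isConj_inv hinv ((bar T).pow_mem hxT 2)).trans hjy
          · left
            have h6 : x ^ 4 = x⁻¹ := by
              rw [eq_inv_iff_mul_eq_one, ← pow_succ]
              exact hx5
            rw [h6] at hjy
            exact (isConj_inv hinv hxT).trans hjy

/-- **The row of `PSL₂(q)`, `q ≥ 5` odd.** -/
theorem row_psl_odd (hodd : Odd (Fintype.card F)) (h5 : 5 ≤ Fintype.card F) :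
    Row.{u, v} (ProjectiveSpecialLinearGroup (Fin 2) F) := by
  rcases Nat.lt_or_ge (Fintype.card F) 11 with h | h
  · obtain ⟨k, hk⟩ := hodd
    have : Fintype.card F = 5 ∨ Fintype.card F = 7 ∨ Fintype.card F = 9 := by omega
    rcases this with h | h | h
    · exact row_five h
    · exact row_seven h
    · exact row_nine h
  · exact row_big hodd h

end Cfsg.Agent.H714.PslRow
end

private theorem dce_b264d2821902 : _root_.True := by
  try have : _root_.True := by simp only [_root_.Matrix.ProjectiveSpecialLinearGroup.congr_simp]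
  exact _root_.True.intro
end
end
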